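import Mathlib.AlgebraicGeometry.Geometrically.Irreducible
import Mathlib.AlgebraicGeometry.Geometrically.Connected
import Mathlib.AlgebraicGeometry.IdealSheaf.Subscheme
import Mathlib.AlgebraicGeometry.Morphisms.ClosedImmersion
import Groth.Agent.VarietyA.GeomIrrS
import Groth.Agent.Ega1.ReducedSub

/-!
# Preimages of closed subsets in a base change `X_K`
-/

set_option autoImplicit false
universe u
open CategoryTheory CategoryTheory.Limits AlgebraicGeometry TopologicalSpace

namespace K418.PreimClosed

theorem geometricallyConnected_of_geometricallyIrreducible {X S : Scheme.{u}} (f : X ⟶ S)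
    [h : GeometricallyIrreducible f] : GeometricallyConnected f := by
  refine ⟨?_⟩
  intro K _ y Z a b hZ
  have := h.1 y a b hZ
  infer_instance

/-- A closed subset is the range of a closed immersion from a reduced scheme. -/
theorem exists_closed_subscheme (X : Scheme.{u}) (T : Set X) (hT : IsClosed T) :
    ∃ (Z : Scheme.{u}) (i : Z ⟶ X), IsClosedImmersion i ∧ IsReduced Z ∧ Set.range i = T := by
  refine ⟨(Scheme.IdealSheafData.vanishingIdeal ⟨T, hT⟩).subscheme,
    (Scheme.IdealSheafData.vanishingIdeal ⟨T, hT⟩).subschemeι, inferInstance,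
    Groth.Agent.Ega1.ReducedSub.isReduced_subscheme_vanishingIdeal _, ?_⟩
  rw [Scheme.IdealSheafData.range_subschemeι, Scheme.IdealSheafData.coe_support_vanishingIdeal]
  rfl

theorem connectedSpace_iff_range {Z X : Scheme.{u}} (i : Z ⟶ X) [IsPreimmersion i] :
    ConnectedSpace Z ↔ _root_.IsConnected (Set.range i) := by
  rw [connectedSpace_iff_univ, ← Set.image_univ]
  constructor
  · intro h
    exact h.image _ i.continuous.continuousOn
  · rintro ⟨h1, h2⟩
    exact ⟨h1.of_image, (i.isEmbedding.isInducing.isPreconnected_image).1 h2⟩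

theorem isPreirreducible_of_image {X Y : Type*} [TopologicalSpace X] [TopologicalSpace Y] {f : X → Y}
    (hf : Topology.IsInducing f) {s : Set X} (h : IsPreirreducible (f '' s)) : IsPreirreducible s := by
  intro u v hu hv hsu hsv
  obtain ⟨u', hu', rfl⟩ := hf.isOpen_iff.1 hu
  obtain ⟨v', hv', rfl⟩ := hf.isOpen_iff.1 hv
  obtain ⟨a, ha1, ha2⟩ := hsu
  obtain ⟨b, hb1, hb2⟩ := hsv
  obtain ⟨_, ⟨c, hc, rfl⟩, hc2⟩ := h u' v' hu' hv' ⟨f a, ⟨a, ha1, rfl⟩, ha2⟩ ⟨f b, ⟨b, hb1, rfl⟩, hb2⟩
  exact ⟨c, hc, hc2⟩

theorem irreducibleSpace_iff_range {Z X : Scheme.{u}} (i : Z ⟶ X) [IsPreimmersion i] :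
    IrreducibleSpace Z ↔ IsIrreducible (Set.range i) := by
  rw [irreducibleSpace_def, Set.top_eq_univ, ← Set.image_univ]
  constructor
  · intro h
    exact h.image _ i.continuous.continuousOn
  · rintro ⟨h1, h2⟩
    exact ⟨h1.of_image, isPreirreducible_of_image i.isEmbedding.isInducing h2⟩

section

variable {X Y S Z : Scheme.{u}} (f : X ⟶ S) (g : Y ⟶ S) (i : Z ⟶ X) [IsClosedImmersion i]

noncomputable def iso : pullback (pullback.fst f g) i ≅ pullback (i ≫ f) g :=
  ((IsPullback.of_hasPullback (pullback.fst f g) i).flip.paste_vert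
    (IsPullback.of_hasPullback f g)).isoPullback

theorem isConnected_preimage_iff :
    _root_.IsConnected (pullback.fst f g ⁻¹' Set.range i) ↔ ConnectedSpace ↥(pullback (i ≫ f) g) := by
  rw [← (iso f g i).hom.homeomorph.connectedSpace_iff,
    connectedSpace_iff_range (pullback.fst (pullback.fst f g) i),
    Scheme.Pullback.range_fst]

theorem isIrreducible_preimage_iff :
    IsIrreducible (pullback.fst f g ⁻¹' Set.range i) ↔ IrreducibleSpace ↥(pullback (i ≫ f) g) := by
  rw [← (iso f g i).hom.homeomorph.irreducibleSpace_iff,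
    irreducibleSpace_iff_range (pullback.fst (pullback.fst f g) i),
    Scheme.Pullback.range_fst]

end

end K418.PreimClosed
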