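import Groth.Agent.VarietyB.BaseExt3
import Groth.Agent.Variety.K418.PreimClosed
import Mathlib.AlgebraicGeometry.Morphisms.UniversallyOpen

/-!
# Galois action on `X_K` and topology
-/

set_option autoImplicit false
universe u
open CategoryTheory CategoryTheory.Limits AlgebraicGeometry TopologicalSpace
open Groth.Agent.VarietyB.BaseExt3

namespace K418.GalTop

variable (k : Type u) [Field k]

/-- functoriality of the base change -/
noncomputable def bcMapX {T X : Scheme.{u}} [T.Over (Spec (CommRingCat.of k))]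
    [X.Over (Spec (CommRingCat.of k))] (f : T ⟶ X) [f.IsOver (Spec (CommRingCat.of k))]
    (K : Type u) [Field K] [Algebra k K] : Curv2.bc k T K ⟶ Curv2.bc k X K :=
  pullback.map _ _ _ _ f (𝟙 _) (𝟙 _) (by simp) (by simp)

variable {T X : Scheme.{u}} [T.Over (Spec (CommRingCat.of k))]
    [X.Over (Spec (CommRingCat.of k))] (f : T ⟶ X) [f.IsOver (Spec (CommRingCat.of k))]
    (K : Type u) [Field K] [Algebra k K]

theorem bcMapX_fst : bcMapX k f K ≫ Curv2.bcFst k X K = Curv2.bcFst k T K ≫ f :=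
  pullback.lift_fst _ _ _

theorem bcMapX_snd : bcMapX k f K ≫ Curv2.bcSnd k X K = Curv2.bcSnd k T K :=
  (pullback.lift_snd _ _ _).trans (Category.comp_id _)

theorem galAct_bcMapX (σ : K ≃ₐ[k] K) :
    Curv2.galAct k T K σ ≫ bcMapX k f K = bcMapX k f K ≫ Curv2.galAct k X K σ := by
  apply pullback.hom_ext
  · change (_ ≫ _) ≫ Curv2.bcFst k X K = (_ ≫ _) ≫ Curv2.bcFst k X K
    rw [Category.assoc, Category.assoc, bcMapX_fst, galAct_fst, bcMapX_fst, ← Category.assoc, galAct_fst]
  · change (_ ≫ _) ≫ Curv2.bcSnd k X K = (_ ≫ _) ≫ Curv2.bcSnd k X K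
    rw [Category.assoc, Category.assoc, bcMapX_snd, galAct_snd, galAct_snd, ← Category.assoc, bcMapX_snd]

theorem isOpenMap_bcFst (X : Scheme.{u}) [X.Over (Spec (CommRingCat.of k))] :
    IsOpenMap (Curv2.bcFst k X K) := (Curv2.bcFst k X K).isOpenMap

/-- A nonempty clopen subset of `X_K` surjects onto `X` if `X` is connected and `K / k` algebraic. -/
theorem image_eq_univ_of_isClopen (X : Scheme.{u}) [X.Over (Spec (CommRingCat.of k))]
    [ConnectedSpace X] [Algebra.IsAlgebraic k K]
    (U : Set (Curv2.bc k X K)) (hU : IsClopen U) (hne : U.Nonempty) :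
    Curv2.bcFst k X K '' U = Set.univ := by
  have h1 : IsClopen (Curv2.bcFst k X K '' U) :=
    ⟨isClosedMap_bcFst k X K _ hU.1, isOpenMap_bcFst k K X _ hU.2⟩
  exact h1.eq_univ (hne.image _)

include f in
theorem connectedSpace_of_galois [IsGalois k K] [ConnectedSpace ↥(Curv2.bc k T K)]
    [hX : ConnectedSpace X] : ConnectedSpace ↥(Curv2.bc k X K) := by
  have key : ∀ U : Set (Curv2.bc k X K), IsClopen U → (bcMapX k f K) ⁻¹' U = ∅ → U = ∅ := by
    intro U hU h
    by_contra hne
    have h1 := image_eq_univ_of_isClopen k K X U hU (Set.nonempty_iff_ne_empty.2 hne)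
    obtain ⟨t⟩ : Nonempty ↥(Curv2.bc k T K) := inferInstance
    obtain ⟨u, hu, hut⟩ : Curv2.bcFst k X K (bcMapX k f K t) ∈ Curv2.bcFst k X K '' U := by
      rw [h1]; trivial
    obtain ⟨σ, hσ⟩ := exists_galAct_eq k X K (bcMapX k f K t) u hut.symm
    have h2 : bcMapX k f K (Curv2.galAct k T K σ t) = u := by
      rw [← hσ, ← Scheme.Hom.comp_apply, galAct_bcMapX, Scheme.Hom.comp_apply]
    have h3 : Curv2.galAct k T K σ t ∈ (bcMapX k f K) ⁻¹' U := by
      change bcMapX k f K (Curv2.galAct k T K σ t) ∈ U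
      rw [h2]; exact hu
    rw [h] at h3
    exact h3
  rw [connectedSpace_iff_clopen]
  refine ⟨⟨bcMapX k f K (Classical.arbitrary _)⟩, fun s hs => ?_⟩
  rcases isClopen_iff.1 (hs.preimage (bcMapX k f K).continuous) with h | h
  · exact Or.inl (key s hs h)
  · right
    have := key sᶜ hs.compl (by rw [Set.preimage_compl, h, Set.compl_univ])
    exact Set.compl_empty_iff.1 this

theorem galAct_symm_apply (X : Scheme.{u}) [X.Over (Spec (CommRingCat.of k))] (σ : K ≃ₐ[k] K)
    (y : Curv2.bc k X K) : Curv2.galAct k X K σ (Curv2.galAct k X K σ.symm y) = y := by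
  have h : Curv2.galAct k X K σ.symm ≫ Curv2.galAct k X K σ = 𝟙 _ := by
    apply pullback.hom_ext
    · change (_ ≫ _) ≫ Curv2.bcFst k X K = _
      rw [Category.assoc, galAct_fst, galAct_fst, Category.id_comp]
    · change (_ ≫ _) ≫ Curv2.bcSnd k X K = _
      rw [Category.assoc, galAct_snd, ← Category.assoc, galAct_snd, Category.assoc,
        ← Spec.map_comp, ← CommRingCat.ofHom_comp]
      have : (σ.symm : K →ₐ[k] K).toRingHom.comp (σ : K →ₐ[k] K).toRingHom = RingHom.id K := by
        ext a; simp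
      rw [this]
      simp
  rw [← Scheme.Hom.comp_apply, h]
  rfl

/-- the Galois action by homeomorphisms -/
theorem image_galAct_eq_preimage (X : Scheme.{u}) [X.Over (Spec (CommRingCat.of k))] (σ : K ≃ₐ[k] K)
    (s : Set (Curv2.bc k X K)) : Curv2.galAct k X K σ '' s = Curv2.galAct k X K σ.symm ⁻¹' s := by
  ext y
  constructor
  · rintro ⟨x, hx, rfl⟩
    have := galAct_symm_apply k K X σ.symm x
    rw [AlgEquiv.symm_symm] at this
    simpa [this] using hx
  · intro h
    exact ⟨_, h, galAct_symm_apply k K X σ y⟩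

theorem bcFst_galAct_apply (X : Scheme.{u}) [X.Over (Spec (CommRingCat.of k))] (σ : K ≃ₐ[k] K)
    (y : Curv2.bc k X K) : Curv2.bcFst k X K (Curv2.galAct k X K σ y) = Curv2.bcFst k X K y := by
  rw [← Scheme.Hom.comp_apply, galAct_fst]

theorem image_galAct_preimage (X : Scheme.{u}) [X.Over (Spec (CommRingCat.of k))] (σ : K ≃ₐ[k] K)
    (T : Set X) : Curv2.galAct k X K σ '' (Curv2.bcFst k X K ⁻¹' T) = Curv2.bcFst k X K ⁻¹' T := by
  rw [image_galAct_eq_preimage]
  ext y
  simp only [Set.mem_preimage]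
  rw [bcFst_galAct_apply]

/-- Homeomorphism given by the Galois action. -/
noncomputable def galHomeo (X : Scheme.{u}) [X.Over (Spec (CommRingCat.of k))] (σ : K ≃ₐ[k] K) :
    Curv2.bc k X K ≃ₜ Curv2.bc k X K where
  toFun := Curv2.galAct k X K σ
  invFun := Curv2.galAct k X K σ.symm
  left_inv x := by
    have := galAct_symm_apply k K X σ.symm x
    rwa [AlgEquiv.symm_symm] at this
  right_inv x := galAct_symm_apply k K X σ x
  continuous_toFun := (Curv2.galAct k X K σ).continuous
  continuous_invFun := (Curv2.galAct k X K σ.symm).continuous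

theorem preimage_image_eq [IsGalois k K] (X : Scheme.{u}) [X.Over (Spec (CommRingCat.of k))]
    (T : Set (Curv2.bc k X K)) (h : ∀ σ : K ≃ₐ[k] K, Curv2.galAct k X K σ '' T = T) :
    Curv2.bcFst k X K ⁻¹' (Curv2.bcFst k X K '' T) = T :=
  preimage_image_eq_of_invariant k X K T fun σ => (h σ).le

end K418.GalTop
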