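import Groth.Agent.S2059
import Groth.Agent.VarietyB.BcChart
import Groth.Agent.VarietyB.ResMap
import Mathlib.AlgebraicGeometry.Morphisms.ClosedImmersion

/-!
# Jacobson base changes to large fields
-/

set_option autoImplicit false

universe u

open CategoryTheory CategoryTheory.Limits AlgebraicGeometry TensorProduct TopologicalSpace
open Groth.Agent

namespace K418.JacBC

theorem surjective_of_isClosedImmersion {R S : CommRingCat.{u}} (φ : R ⟶ S)
    [IsClosedImmersion (Spec.map φ)] : Function.Surjective φ.hom := by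
  have h1 := (IsClosedImmersion.isAffine_surjective_of_isAffine (Spec.map φ)).2
  have h2 : φ = (Scheme.ΓSpecIso R).inv ≫ (Spec.map φ).appTop ≫ (Scheme.ΓSpecIso S).hom := by
    rw [Scheme.ΓSpecIso_naturality, Iso.inv_hom_id_assoc]
  rw [h2]
  simp only [CommRingCat.hom_comp, RingHom.coe_comp]
  exact ((ConcreteCategory.bijective_of_isIso (Scheme.ΓSpecIso S).hom).2.comp h1).comp
    (ConcreteCategory.bijective_of_isIso (Scheme.ΓSpecIso R).inv).2

/-- The residue field at a closed point in the image of a chart `Spec B` is algebraic over the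
base field as soon as `B / q` is. -/
theorem isAlgebraic_residueField {K : Type u} [Field K] {Z : Scheme.{u}}
    [Z.Over (Spec (CommRingCat.of K))] {B : Type u} [CommRing B] [Algebra K B]
    (j : Spec (CommRingCat.of B) ⟶ Z)
    (hj : j ≫ (Z ↘ (Spec (CommRingCat.of K))) = Spec.map (CommRingCat.ofHom (algebraMap K B)))
    (q : Spec (CommRingCat.of B)) (hq : IsClosed ({q} : Set (Spec (CommRingCat.of B))))
    (halg : Algebra.IsAlgebraic K (B ⧸ PrimeSpectrum.asIdeal (R := B) q)) :
    @Algebra.IsAlgebraic K (Z.residueField (j q)) _ _ (Curv2.resAlgebra K Z (j q)) := by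
  obtain ⟨ψ, hψ⟩ := Spec.map_surjective ((Spec (CommRingCat.of B)).fromSpecResidueField q)
  have hsurj : Function.Surjective ψ.hom := by
    have h1 : IsClosedImmersion (Spec.map ψ) := by
      rw [hψ]; exact isClosed_singleton_iff_isClosedImmersion.mp hq
    exact surjective_of_isClosedImmersion ψ
  have hker : ∀ b ∈ PrimeSpectrum.asIdeal (R := B) q, ψ.hom b = 0 := by
    intro b hb
    have h1 : (Spec.map ψ) (IsLocalRing.closedPoint _) = q := by
      rw [hψ]; exact Scheme.fromSpecResidueField_apply _ _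
    rw [← h1] at hb
    have h2 : b ∈ (PrimeSpectrum.asIdeal (R := (Spec (CommRingCat.of B)).residueField q)
      (IsLocalRing.closedPoint _)).comap ψ.hom := hb
    rw [Ideal.mem_comap] at h2
    have h3 : (PrimeSpectrum.asIdeal (R := (Spec (CommRingCat.of B)).residueField q)
      (IsLocalRing.closedPoint _)) = ⊥ := IsLocalRing.maximalIdeal_eq_bot
    rw [h3] at h2
    exact h2
  let _ := Curv2.resAlgebra K Z (j q)
  let _ : Algebra K ((Spec (CommRingCat.of B)).residueField q) :=
    (ψ.hom.comp (algebraMap K B)).toAlgebra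
  have hcomp : ψ.hom.comp (algebraMap K B) =
      (j.residueFieldMap q).hom.comp (Curv2.resMap K Z (j q)) := by
    have : CommRingCat.ofHom (algebraMap K B) ≫ ψ =
        CommRingCat.ofHom (Curv2.resMap K Z (j q)) ≫ j.residueFieldMap q := by
      apply Spec.map_injective
      rw [Spec.map_comp, Spec.map_comp, hψ, ← hj, VarietyB.ResMap.specMap_resMap,
        Scheme.Hom.SpecMap_residueFieldMap_fromSpecResidueField_assoc]
    exact congrArg CommRingCat.Hom.hom this
  let e : Z.residueField (j q) →ₐ[K] (Spec (CommRingCat.of B)).residueField q :=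
    { (j.residueFieldMap q).hom with
      commutes' := fun r => (DFunLike.congr_fun hcomp r).symm }
  have h1 : Algebra.IsAlgebraic K ((Spec (CommRingCat.of B)).residueField q) := by
    let g : (B ⧸ PrimeSpectrum.asIdeal (R := B) q) →ₐ[K]
        (Spec (CommRingCat.of B)).residueField q :=
      Ideal.Quotient.liftₐ (PrimeSpectrum.asIdeal (R := B) q)
        { ψ.hom with commutes' := fun r => rfl } hker
    have hg : Function.Surjective g := by
      intro c
      obtain ⟨b, rfl⟩ := hsurj c
      exact ⟨Ideal.Quotient.mk _ b, rfl⟩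
    refine ⟨fun c => ?_⟩
    obtain ⟨b, rfl⟩ := hg c
    exact (halg.isAlgebraic b).algHom g
  exact Algebra.IsAlgebraic.of_injective e (RingHom.injective _)

/-- The base change to a large field of an affine scheme. -/
theorem ring {k K A : Type u} [Field k] [Field K] [Algebra k K] [CommRing A] [Algebra k A]
    (h : Cardinal.mk A < Cardinal.mk K) :
    letI : Algebra K (A ⊗[k] K) :=
      (Algebra.TensorProduct.includeRight : K →ₐ[k] A ⊗[k] K).toRingHom.toAlgebra
    (∀ (m : Ideal (A ⊗[k] K)) [m.IsMaximal], Algebra.IsAlgebraic K ((A ⊗[k] K) ⧸ m)) ∧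
      IsJacobsonRing (A ⊗[k] K) := by
  let _ : Algebra K (A ⊗[k] K) :=
    (Algebra.TensorProduct.includeRight : K →ₐ[k] A ⊗[k] K).toRingHom.toAlgebra
  refine Groth.Agent.S2059.result (k := K) (S := A ⊗[k] K)
    (Set.range (fun a : A => a ⊗ₜ[k] (1 : K))) ?_ (Cardinal.mk_range_le.trans_lt h)
  rw [eq_top_iff]
  rintro x -
  induction x using TensorProduct.induction_on with
  | zero => exact Subalgebra.zero_mem _
  | add x y hx hy => exact Subalgebra.add_mem _ hx hy
  | tmul a c =>
    have h1 : a ⊗ₜ[k] c = c • (a ⊗ₜ[k] (1 : K)) := by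
      rw [Algebra.smul_def]
      change a ⊗ₜ[k] c = ((1 : A) ⊗ₜ[k] c) * (a ⊗ₜ[k] (1 : K))
      rw [Algebra.TensorProduct.tmul_mul_tmul, one_mul, mul_one]
    rw [h1]
    exact Subalgebra.smul_mem _
      (Algebra.subset_adjoin (s := Set.range (fun a : A => a ⊗ₜ[k] (1 : K))) ⟨a, rfl⟩) c

theorem main (k : Type u) [Field k] (X : Scheme.{u}) [X.Over (Spec (CommRingCat.of k))] :
    ∃ κ : Cardinal.{u}, ∀ (K : Type u) [Field K] [Algebra k K], κ ≤ Cardinal.mk K →
      JacobsonSpace ↥(Curv2.bc k X K) ∧
        ∀ x : ↥(Curv2.bc k X K), IsClosed ({x} : Set ↥(Curv2.bc k X K)) →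
          letI : (Curv2.bc k X K).Over (Spec (CommRingCat.of K)) := ⟨Curv2.bcSnd k X K⟩
          @Algebra.IsAlgebraic K ((Curv2.bc k X K).residueField x) _ _
            (Curv2.resAlgebra K (Curv2.bc k X K) x) := by
  choose A hA hA' i hio p hi hp using VarietyB.BcChart.exists_chart k X
  refine ⟨⨆ x : X, Order.succ (Cardinal.mk (A x)), ?_⟩
  intro K _ _ hK
  let _ : (Curv2.bc k X K).Over (Spec (CommRingCat.of K)) := ⟨Curv2.bcSnd k X K⟩
  have hcard : ∀ x : X, Cardinal.mk (A x) < Cardinal.mk K := fun x =>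
    (Order.lt_succ _).trans_le ((le_ciSup Cardinal.bddAbove_of_small x).trans hK)
  have hop : ∀ x, IsOpenImmersion (VarietyB.BcChart.chart k X K (i x) (hi x)) := fun x =>
    VarietyB.BcChart.isOpenImmersion_chart k X K (i x) (hi x)
  constructor
  · have hcov : IsOpenCover (fun x : X =>
        (VarietyB.BcChart.chart k X K (i x) (hi x)).opensRange) := by
      rw [IsOpenCover, eq_top_iff]
      rintro y -
      obtain ⟨q, hq, -⟩ := VarietyB.BcChart.exists_chart_eq k X K (i (Curv2.bcFst k X K y))
        (hi (Curv2.bcFst k X K y)) y (p (Curv2.bcFst k X K y)) (hp _)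
      exact Opens.mem_iSup.mpr ⟨Curv2.bcFst k X K y, ⟨q, hq⟩⟩
    rw [hcov.jacobsonSpace_iff]
    intro x
    have h1 : JacobsonSpace (PrimeSpectrum (A x ⊗[k] K)) :=
      PrimeSpectrum.isJacobsonRing_iff_jacobsonSpace.mp (ring (hcard x)).2
    let e : (VarietyB.BcChart.chart k X K (i x) (hi x)).opensRange ≃ₜ
        PrimeSpectrum (A x ⊗[k] K) :=
      Scheme.homeoOfIso (VarietyB.BcChart.chart k X K (i x) (hi x)).isoOpensRange.symm
    exact JacobsonSpace.of_isClosedEmbedding e.isClosedEmbedding
  · intro y hy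
    obtain ⟨x, q, hq⟩ : ∃ (x : X) (q : Spec (CommRingCat.of (A x ⊗[k] K))),
        VarietyB.BcChart.chart k X K (i x) (hi x) q = y := by
      obtain ⟨q, hq, -⟩ := VarietyB.BcChart.exists_chart_eq k X K (i (Curv2.bcFst k X K y))
        (hi (Curv2.bcFst k X K y)) y (p (Curv2.bcFst k X K y)) (hp _)
      exact ⟨_, q, hq⟩
    subst hq
    let _ : Algebra K (A x ⊗[k] K) :=
      (Algebra.TensorProduct.includeRight : K →ₐ[k] A x ⊗[k] K).toRingHom.toAlgebra
    have hq : IsClosed ({q} : Set (Spec (CommRingCat.of (A x ⊗[k] K)))) := by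
      have h1 := hy.preimage (VarietyB.BcChart.chart k X K (i x) (hi x)).continuous
      convert h1
      ext q'
      simp only [Set.mem_singleton_iff, Set.mem_preimage]
      exact ⟨fun h => by rw [h], fun h =>
        (VarietyB.BcChart.chart k X K (i x) (hi x)).isOpenEmbedding.injective h⟩
    have hqm : (PrimeSpectrum.asIdeal (R := A x ⊗[k] K) q).IsMaximal :=
      (PrimeSpectrum.isClosed_singleton_iff_isMaximal _).mp hq
    exact isAlgebraic_residueField (K := K) (VarietyB.BcChart.chart k X K (i x) (hi x))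
      (VarietyB.BcChart.chart_snd k X K (i x) (hi x)) q hq ((ring (hcard x)).1 _)

end K418.JacBC
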