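import Groth.Agent.Variety.K418.ProdStalk
import Groth.Agent.VarietyB.NormalBc
import Groth.Agent.VarietyA.GeomRedBC
import Groth.Agent.S2070
import Groth.Agent.S9413
import Groth.Agent.S2690
import Groth.Agent.Ega4B.FibDesc
import Groth.Prelude.Def_Curv2

/-!
# Geometric normality at a point
-/

set_option autoImplicit false
universe u
open CategoryTheory CategoryTheory.Limits AlgebraicGeometry TensorProduct

namespace K418.NormalStalk

open Groth.Agent.VarietyA.StalkBC K418.ProdStalk Groth.Agent.VarietyB.NormalBc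

theorem P_localization (R : Type u) [CommRing R] (h : P R) (p : Ideal R) [p.IsPrime] :
    P (Localization.AtPrime p) := by
  have := h.1
  have := h.2
  exact ⟨inferInstance, isIntegrallyClosed_of_isLocalization _ _ p.primeCompl_le_nonZeroDivisors⟩

theorem P_of_le {S : Type u} [CommRing S] (q m : Ideal S) [q.IsPrime] [m.IsPrime] (h : q ≤ m)
    (hm : P (Localization.AtPrime m)) : P (Localization.AtPrime q) := by
  have hd : Disjoint (m.primeCompl : Set S) (q : Set S) := by
    rw [Set.disjoint_left]
    intro x hx hx'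
    exact hx (h hx')
  let Q := q.map (algebraMap S (Localization.AtPrime m))
  have hQ : Q.IsPrime := IsLocalization.isPrime_of_isPrime_disjoint m.primeCompl _ q inferInstance hd
  have hQc : Q.comap (algebraMap S (Localization.AtPrime m)) = q :=
    IsLocalization.under_map_of_isPrime_disjoint m.primeCompl _ ‹q.IsPrime› hd
  have h1 := P_localization _ hm Q
  have h2 : IsLocalization.AtPrime (Localization.AtPrime Q)
      (Q.comap (algebraMap S (Localization.AtPrime m))) :=
    IsLocalization.isLocalization_isLocalization_atPrime_isLocalization m.primeCompl _ Q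
  have h3 : IsLocalization.AtPrime (Localization.AtPrime Q) q := by
    convert h2
    exact hQc.symm
  exact P_of_equiv _ _ (IsLocalization.algEquiv q.primeCompl (Localization.AtPrime Q)
    (Localization.AtPrime q)).toRingEquiv h1

variable (k : Type u) [Field k] (X : Scheme.{u}) [X.Over (Spec (CommRingCat.of k))]

attribute [local instance] Curv2.stalkAlgebra

/-- The local rings of `X_K` over `x` are normal iff the localizations of `𝒪_x ⊗ K` over the maximal
ideal are. -/
theorem forall_stalk_iff (x : X) (K : Type u) [Field K] [Algebra k K] :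
    (∀ x' : Curv2.bc k X K, Curv2.bcFst k X K x' = x → P ((Curv2.bc k X K).presheaf.stalk x')) ↔
      ∀ (q : Ideal (X.presheaf.stalk x ⊗[k] K)) [q.IsPrime],
        q.comap (Algebra.TensorProduct.includeLeftRingHom (R := k)
          (A := X.presheaf.stalk x) (B := K)) = IsLocalRing.maximalIdeal _ →
        P (Localization.AtPrime q) := by
  constructor
  · intro h q hq hqx
    have h1 := h (specTensorTo (X ↘ Spec (CommRingCat.of k)) K x rfl ⟨q, hq⟩)
      (fst_specTensorTo_apply _ _ _ rfl _ hqx)
    exact P_of_equiv _ _ (stalkEquiv (X ↘ Spec (CommRingCat.of k)) K x rfl ⟨q, hq⟩) h1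
  · intro h x' hx'
    obtain ⟨q, rfl, hq⟩ := exists_specTensorTo_eq (X ↘ Spec (CommRingCat.of k)) K x rfl x' hx'
    have hqp : q.asIdeal.IsPrime := q.isPrime
    exact P_of_equiv _ _ (stalkEquiv (X ↘ Spec (CommRingCat.of k)) K x rfl q).symm
      (h q.asIdeal hq)

/-- for algebraic extensions it suffices to consider primes over the maximal ideal -/
theorem forall_prime_of_algebraic (R : Type u) [CommRing R] [IsLocalRing R] [Algebra k R]
    (K : Type u) [Field K] [Algebra k K] [Algebra.IsAlgebraic k K]
    (h : ∀ (q : Ideal (R ⊗[k] K)) [q.IsPrime],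
        q.comap (Algebra.TensorProduct.includeLeftRingHom (R := k)
          (A := R) (B := K)) = IsLocalRing.maximalIdeal _ → P (Localization.AtPrime q))
    (q : Ideal (R ⊗[k] K)) [q.IsPrime] : P (Localization.AtPrime q) := by
  obtain ⟨m, hm, hqm⟩ := Ideal.exists_le_maximal q (Ideal.IsPrime.ne_top inferInstance)
  have hint : Algebra.IsIntegral R (R ⊗[k] K) := inferInstance
  have h1 : (m.comap (algebraMap R (R ⊗[k] K))).IsMaximal :=
    Ideal.isMaximal_comap_of_isIntegral_of_isMaximal m
  exact P_of_le q m hqm (h m (IsLocalRing.eq_maximalIdeal h1))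

/-- (1) iff (2) iff (3) for geometric normality at a point. -/
theorem tfae (x : X) :
    ((∀ (k' : Type u) [Field k'] [Algebra k k'] (x' : ↥(Curv2.bc k X k')), Curv2.bcFst k X k' x' = x →
          P ↥((Curv2.bc k X k').presheaf.stalk x')) ↔
      (∀ (k' : Type u) [Field k'] [Algebra k k'] [FiniteDimensional k k'] [IsPurelyInseparable k k'] (x' : ↥(Curv2.bc k X k')), Curv2.bcFst k X k' x' = x →
          P ↥((Curv2.bc k X k').presheaf.stalk x'))) ∧
    ((∀ (k' : Type u) [Field k'] [Algebra k k'] [FiniteDimensional k k'] [IsPurelyInseparable k k'] (x' : ↥(Curv2.bc k X k')), Curv2.bcFst k X k' x' = x →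
          P ↥((Curv2.bc k X k').presheaf.stalk x')) ↔
      ∀ (k' : Type u) [Field k'] [Algebra k k'], EGA4.IsNormalRing (k' ⊗[k] ↥(X.presheaf.stalk x))) := by
  have h31 : (∀ (k' : Type u) [Field k'] [Algebra k k'],
      EGA4.IsNormalRing (k' ⊗[k] ↥(X.presheaf.stalk x))) → (∀ (k' : Type u) [Field k'] [Algebra k k'] (x' : ↥(Curv2.bc k X k')), Curv2.bcFst k X k' x' = x →
          P ↥((Curv2.bc k X k').presheaf.stalk x')) := by
    intro h k' _ _
    rw [forall_stalk_iff]
    intro q _ _
    exact (forall_prime_comm k (X.presheaf.stalk x) k').2 (h k') q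
  have h12 : (∀ (k' : Type u) [Field k'] [Algebra k k'] (x' : ↥(Curv2.bc k X k')), Curv2.bcFst k X k' x' = x →
          P ↥((Curv2.bc k X k').presheaf.stalk x')) →
      (∀ (k' : Type u) [Field k'] [Algebra k k'] [FiniteDimensional k k'] [IsPurelyInseparable k k'] (x' : ↥(Curv2.bc k X k')), Curv2.bcFst k X k' x' = x →
          P ↥((Curv2.bc k X k').presheaf.stalk x')) := fun h k' _ _ _ _ => h k'
  have h23 : (∀ (k' : Type u) [Field k'] [Algebra k k'] [FiniteDimensional k k'] [IsPurelyInseparable k k'] (x' : ↥(Curv2.bc k X k')), Curv2.bcFst k X k' x' = x →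
          P ↥((Curv2.bc k X k').presheaf.stalk x')) → (∀ (k' : Type u) [Field k'] [Algebra k k'],
      EGA4.IsNormalRing (k' ⊗[k] ↥(X.presheaf.stalk x))) := by
    intro h
    refine (Groth.Agent.S2070.result (k := k) (A := X.presheaf.stalk x)).mpr ?_
    intro k' _ _ _ _
    refine (forall_prime_comm k (X.presheaf.stalk x) k').mp ?_
    exact forall_prime_of_algebraic k (X.presheaf.stalk x) k' ((forall_stalk_iff k X x k').1 (h k'))
  exact ⟨⟨h12, fun h => h31 (h23 h)⟩, ⟨h23, fun h => h12 (h31 h)⟩⟩

/-- normality descends along flat maps, at a point. -/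
theorem P_stalk_of_flat {X Y : Scheme.{u}} (g : X ⟶ Y) [Flat g] (x : X)
    (h : P (X.presheaf.stalk x)) : P (Y.presheaf.stalk (g x)) := by
  have h2 : (g.stalkMap x).hom.Flat := Flat.stalkMap g x
  algebraize [(g.stalkMap x).hom]
  have : IsLocalHom (algebraMap (Y.presheaf.stalk (g x)) (X.presheaf.stalk x)) :=
    inferInstanceAs (IsLocalHom (g.stalkMap x).hom)
  have : Module.FaithfullyFlat (Y.presheaf.stalk (g x)) (X.presheaf.stalk x) :=
    Module.FaithfullyFlat.of_flat_of_isLocalHom
  have h3 := h.1
  have h4 := h.2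
  exact Groth.Agent.Ega4B.FibDesc.normal_of_faithfullyFlat (T := X.presheaf.stalk x)

theorem of_baseChange (k' : Type u) [Field k'] [Algebra k k'] (x' : ↥(Curv2.bc k X k'))
    (h : letI : (Curv2.bc k X k').Over (Spec (CommRingCat.of k')) := ⟨Curv2.bcSnd k X k'⟩
      ∀ (k'' : Type u) [Field k''] [Algebra k' k''] (x'' : ↥(Curv2.bc k' (Curv2.bc k X k') k'')), Curv2.bcFst k' (Curv2.bc k X k') k'' x'' = x' →
          P ↥((Curv2.bc k' (Curv2.bc k X k') k'').presheaf.stalk x''))
    (K : Type u) [Field K] [Algebra k K] (y : ↥(Curv2.bc k X K))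
    (hy : Curv2.bcFst k X K y = (Curv2.bcFst k X k' x')) :
    P ↥((Curv2.bc k X K).presheaf.stalk y) := by
  obtain ⟨F, _, _, _, _, _, _, w, g, hg, hw1, hw2, -⟩ :=
    Groth.Agent.VarietyA.GeomRedBC.exists_common k X K k' y x' hy
  have h1 := h F w hw1
  rw [← hw2]
  exact P_stalk_of_flat g w h1

/-- product of a geometrically normal and a normal scheme -/
theorem isNormalScheme_pullback (Y : Scheme.{u}) [Y.Over (Spec (CommRingCat.of k))]
    (hX : ∀ (K : Type u) [Field K] [Algebra k K], Pi1.IsNormalScheme (Curv2.bc k X K))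
    (hY : Pi1.IsNormalScheme Y) :
    Pi1.IsNormalScheme (pullback (X ↘ (Spec (CommRingCat.of k))) (Y ↘ (Spec (CommRingCat.of k)))) := by
  intro z
  obtain ⟨q, hq, -, ⟨e⟩⟩ := exists_stalk_equiv (X ↘ (Spec (CommRingCat.of k)))
    (Y ↘ (Spec (CommRingCat.of k)))
    (pullback.fst (X ↘ (Spec (CommRingCat.of k))) (Y ↘ (Spec (CommRingCat.of k))) z)
    (pullback.snd (X ↘ (Spec (CommRingCat.of k))) (Y ↘ (Spec (CommRingCat.of k))) z) rfl rfl z rfl rfl
  refine P_of_equiv _ _ e.symm ?_
  refine Groth.Agent.S9413.result k _ _ ?_ ?_ q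
  · intro k' _ _ _
    refine (forall_prime_comm k _ k').mp ?_
    exact forall_prime_of_algebraic k _ k' ((forall_stalk_iff k X _ k').1 (fun x' _ => hX k' x'))
  · intro q _
    exact P_localization _ (hY _) q

theorem isNormalScheme_bc_of_separable (hX : Pi1.IsNormalScheme X)
    (K : Type u) [Field K] [Algebra k K] [Algebra.IsGeometricallyReduced k K] :
    Pi1.IsNormalScheme (Curv2.bc k X K) := by
  intro z
  have h1 := (forall_stalk_iff k X (Curv2.bcFst k X K z) K).2
  refine h1 ?_ z rfl
  intro q _ _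
  refine (forall_prime_comm k _ K).mpr ?_ q
  exact Groth.Agent.S2690.result k (X.presheaf.stalk (Curv2.bcFst k X K z)) K
    (fun p _ => P_localization _ (hX _) p)

end K418.NormalStalk
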