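import Groth.Agent.Variety.K418.DimBC
import Groth.Agent.VarietyB.DimSch
import Groth.Agent.VarietyB.ResMap
import Groth.Agent.Flat2D.DimFlat
import Groth.Agent.Flat2D.PbStalk

/-!
# Local dimensions and flat morphisms

`localDim_eq_add_of_flat`: for a morphism `f : X ⟶ Y` of schemes locally of finite type over a field,
flat at `x`, one has `dim_x X = dim_{f x} Y + dim_x X_{f x}`.
-/

set_option autoImplicit false

universe u

open CategoryTheory CategoryTheory.Limits AlgebraicGeometry TensorProduct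
open Groth.Agent

namespace K418.DimFlat

variable (k : Type u) [Field k]

/-- `ringKrullDim` of a Noetherian local ring is a natural number. -/
theorem exists_ringKrullDim_eq (A : Type u) [CommRing A] [IsLocalRing A] [IsNoetherianRing A] :
    ∃ n : ℕ, ringKrullDim A = n := by
  have h1 := ringKrullDim_ne_top (R := A)
  have h2 := ringKrullDim_ne_bot (R := A)
  obtain ⟨m, hm⟩ := WithBot.ne_bot_iff_exists.mp h2
  rw [← hm] at h1 ⊢
  obtain ⟨n, rfl⟩ := ENat.ne_top_iff_exists.mp (fun h : m = ⊤ => h1 (by rw [h]; rfl))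
  exact ⟨n, rfl⟩

/-- The dimension formula for the local rings at a point where the morphism is flat. -/
theorem ringKrullDim_stalk_of_flat {X Y : Scheme.{u}} (f : X ⟶ Y) (x : X)
    (hfl : (f.stalkMap x).hom.Flat) [IsNoetherianRing (X.presheaf.stalk x)]
    [IsNoetherianRing (Y.presheaf.stalk (f x))] :
    ringKrullDim (X.presheaf.stalk x) = ringKrullDim (Y.presheaf.stalk (f x)) +
      ringKrullDim ((f.fiber (f x)).presheaf.stalk (f.asFiber x)) := by
  rw [← (Flat2D.PbStalk.fiberStalkEquiv f x).ringKrullDim]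
  let _ : Algebra (Y.presheaf.stalk (f x)) (X.presheaf.stalk x) := (f.stalkMap x).hom.toAlgebra
  have h1 : Module.Flat (Y.presheaf.stalk (f x)) (X.presheaf.stalk x) := hfl
  have h2 : IsLocalHom (algebraMap (Y.presheaf.stalk (f x)) (X.presheaf.stalk x)) :=
    inferInstanceAs (IsLocalHom (f.stalkMap x).hom)
  exact Flat2D.DimFlat.ringKrullDim_eq_add_of_flat (Y.presheaf.stalk (f x)) (X.presheaf.stalk x)

theorem locallyOfFiniteType_fiber {X Y : Scheme.{u}} (f : X ⟶ Y) [hft : LocallyOfFiniteType f]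
    (s : Y) : LocallyOfFiniteType (f.fiberToSpecResidueField s) :=
  MorphismProperty.of_isPullback (IsPullback.of_hasPullback f (Y.fromSpecResidueField s)) hft

/-- `dim_x X = dim_{f x} Y + dim_x X_{f x}` when `f` is flat at `x`. -/
theorem localDim_eq_add_of_flat {X Y : Scheme.{u}} [X.Over (Spec (CommRingCat.of k))]
    [Y.Over (Spec (CommRingCat.of k))] [LocallyOfFiniteType (X ↘ Spec (CommRingCat.of k))]
    [LocallyOfFiniteType (Y ↘ Spec (CommRingCat.of k))] (f : X ⟶ Y)
    (hf : f ≫ (Y ↘ (Spec (CommRingCat.of k))) = X ↘ (Spec (CommRingCat.of k))) (x : X)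
    (hfl : (f.stalkMap x).hom.Flat) :
    FlatMor.localDim X x = FlatMor.localDim Y (f x) + FlatMor.fibreDimAt f x := by
  have hX : IsLocallyNoetherian X :=
    LocallyOfFiniteType.isLocallyNoetherian (X ↘ (Spec (CommRingCat.of k)))
  have hY : IsLocallyNoetherian Y :=
    LocallyOfFiniteType.isLocallyNoetherian (Y ↘ (Spec (CommRingCat.of k)))
  have hft : LocallyOfFiniteType f := by
    have : LocallyOfFiniteType (f ≫ (Y ↘ (Spec (CommRingCat.of k)))) := by rw [hf]; infer_instance
    exact locallyOfFiniteType_of_comp f (Y ↘ (Spec (CommRingCat.of k)))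
  let _ : (f.fiber (f x)).Over (Spec (CommRingCat.of (Y.residueField (f x)))) :=
      ⟨f.fiberToSpecResidueField (f x)⟩
  have hft' : LocallyOfFiniteType ((f.fiber (f x)) ↘ (Spec (CommRingCat.of (Y.residueField (f x))))) :=
    locallyOfFiniteType_fiber f (f x)
  have e1 := VarietyB.DimSch.localDim_eq k (X := X) x
  have e2 := VarietyB.DimSch.localDim_eq k (X := Y) (f x)
  have e3 := VarietyB.DimSch.localDim_eq (Y.residueField (f x)) (X := f.fiber (f x)) (f.asFiber x)
  have e4 := VarietyB.ResMap.trd_fiber k f hf (f x) (f.asFiber x)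
  have e5 := ringKrullDim_stalk_of_flat f x hfl
  have t1 : VarietyB.ResMap.trd k X x = (VarietyB.DimSch.trd k X x : Cardinal.{u}) :=
    VarietyB.DimSch.trdeg_eq_trd k x
  have t2 : VarietyB.ResMap.trd k Y (f x) = (VarietyB.DimSch.trd k Y (f x) : Cardinal.{u}) :=
    VarietyB.DimSch.trdeg_eq_trd k (f x)
  have t3 : VarietyB.ResMap.trd (Y.residueField (f x)) (f.fiber (f x)) (f.asFiber x) =
      (VarietyB.DimSch.trd (Y.residueField (f x)) (f.fiber (f x)) (f.asFiber x) : Cardinal.{u}) :=
    VarietyB.DimSch.trdeg_eq_trd (Y.residueField (f x)) (f.asFiber x)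
  have e6 : VarietyB.DimSch.trd k X x = VarietyB.DimSch.trd k Y (f x) +
      VarietyB.DimSch.trd (Y.residueField (f x)) (f.fiber (f x)) (f.asFiber x) := by
    rw [Scheme.Hom.fiberι_asFiber, t1, t2, t3] at e4
    exact_mod_cast e4
  rw [FlatMor.fibreDimAt, e1, e2]
  change _ = _ + FlatMor.localDim (f.fiber (f x)) (f.asFiber x)
  rw [e3, e5, e6]
  push_cast
  abel

/-- The local dimension of the scheme fibre over `s` at `w` is the fibre dimension at the image
of `w` in the total space. -/
theorem localDim_fiber {X Y : Scheme.{u}} (f : X ⟶ Y) (s : Y) (w : f.fiber s) :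
    FlatMor.localDim (f.fiber s) w = FlatMor.fibreDimAt f (f.fiberι s w) := by
  have key : ∀ (x : X) (h : x ∈ f ⁻¹' {s}),
      FlatMor.localDim (f ⁻¹' {s} : Set X) ⟨x, h⟩ = FlatMor.fibreDimAt f x := by
    intro x h
    obtain rfl : f x = s := h
    have := VarietyB.DimTop.localDim_eq_of_homeomorph (f.fiberHomeo (f x)) (f.asFiber x)
    rw [Scheme.Hom.asFiber, Homeomorph.apply_symm_apply] at this
    exact this.symm
  rw [VarietyB.DimTop.localDim_eq_of_homeomorph (f.fiberHomeo s) w]
  exact key _ (f.fiberHomeo s w).2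

/-- The map induced on fibres by a cartesian square. -/
noncomputable def fibMap {X Y X' Y' : Scheme.{u}} {f : X ⟶ Y} {f' : X' ⟶ Y'}
    {g' : X' ⟶ X} {g : Y' ⟶ Y} (H : IsPullback g' f' f g) (y' : Y') :
    f'.fiber y' ⟶ f.fiber (g y') :=
  pullback.map _ _ _ _ g' (Spec.map (g.residueFieldMap y')) g H.w.symm (by simp)

lemma fibMap_fiberι {X Y X' Y' : Scheme.{u}} {f : X ⟶ Y} {f' : X' ⟶ Y'}
    {g' : X' ⟶ X} {g : Y' ⟶ Y} (H : IsPullback g' f' f g) (y' : Y') :
    fibMap H y' ≫ f.fiberι (g y') = f'.fiberι y' ≫ g' := pullback.lift_fst _ _ _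

lemma isPullback_fibMap {X Y X' Y' : Scheme.{u}} {f : X ⟶ Y} {f' : X' ⟶ Y'}
    {g' : X' ⟶ X} {g : Y' ⟶ Y} (H : IsPullback g' f' f g) (y' : Y') :
    IsPullback (fibMap H y') (f'.fiberToSpecResidueField y')
      (f.fiberToSpecResidueField (g y')) (Spec.map (g.residueFieldMap y')) :=
  isPullback_fiberToSpecResidueField_of_isPullback H y'

/-- The fibre dimension is invariant under base change. -/
theorem fibreDimAt_of_isPullback {X Y X' Y' : Scheme.{u}} {f : X ⟶ Y} {f' : X' ⟶ Y'}
    {g' : X' ⟶ X} {g : Y' ⟶ Y} [hft : LocallyOfFiniteType f] (H : IsPullback g' f' f g) (x' : X') :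
    FlatMor.fibreDimAt f' x' = FlatMor.fibreDimAt f (g' x') := by
  let _ : Algebra (Y.residueField (g (f' x'))) (Y'.residueField (f' x')) :=
    (g.residueFieldMap (f' x')).hom.toAlgebra
  have := locallyOfFiniteType_fiber f (g (f' x'))
  have h1 : FlatMor.localDim (f'.fiber (f' x')) (f'.asFiber x') =
      FlatMor.localDim (f.fiber (g (f' x'))) (fibMap H (f' x') (f'.asFiber x')) :=
    DimBC.localDim_of_isPullback (k := Y.residueField (g (f' x')))
      (K := Y'.residueField (f' x')) (isPullback_fibMap H (f' x')) (f'.asFiber x')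
  refine h1.trans ?_
  rw [localDim_fiber]
  congr 1
  rw [← Scheme.Hom.comp_apply, fibMap_fiberι, Scheme.Hom.comp_apply, Scheme.Hom.fiberι_asFiber]

/-- The fibre dimension of a scheme over a field is the local dimension. -/
theorem fibreDimAt_over_field {X : Scheme.{u}} (f : X ⟶ Spec (CommRingCat.of k)) (x : X) :
    FlatMor.fibreDimAt f x = FlatMor.localDim X x := by
  have h0 : IsOpen (f ⁻¹' {f x} : Set X) := by
    have : Subsingleton (Spec (CommRingCat.of k)) :=
      inferInstanceAs (Subsingleton (PrimeSpectrum k))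
    have : (f ⁻¹' {f x} : Set X) = Set.univ := by
      ext y
      simp [Subsingleton.elim (f y) (f x)]
    rw [this]
    exact isOpen_univ
  have h1 : FlatMor.fibreDimAt f x = FlatMor.localDim (f ⁻¹' {f x} : Set X) ⟨x, rfl⟩ := by
    have := VarietyB.DimTop.localDim_eq_of_homeomorph (f.fiberHomeo (f x)) (f.asFiber x)
    rw [Scheme.Hom.asFiber, Homeomorph.apply_symm_apply] at this
    exact this
  rw [h1]
  exact VarietyB.DimTop.localDim_eq_of_isOpenEmbedding
    (f := (Subtype.val : (f ⁻¹' {f x} : Set X) → X)) h0.isOpenEmbedding_subtypeVal ⟨x, rfl⟩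

/-- The dimension of a product of schemes over a field at a point. -/
theorem localDim_pullback (X Y : Scheme.{u}) [X.Over (Spec (CommRingCat.of k))]
    [Y.Over (Spec (CommRingCat.of k))] [LocallyOfFiniteType (X ↘ Spec (CommRingCat.of k))]
    [LocallyOfFiniteType (Y ↘ Spec (CommRingCat.of k))]
    (z : ↥(pullback (X ↘ (Spec (CommRingCat.of k))) (Y ↘ (Spec (CommRingCat.of k))))) :
    FlatMor.localDim ↥(pullback (X ↘ (Spec (CommRingCat.of k))) (Y ↘ (Spec (CommRingCat.of k)))) z =
      FlatMor.localDim ↥X (pullback.fst (X ↘ (Spec (CommRingCat.of k)))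
          (Y ↘ (Spec (CommRingCat.of k))) z) +
        FlatMor.localDim ↥Y (pullback.snd (X ↘ (Spec (CommRingCat.of k)))
          (Y ↘ (Spec (CommRingCat.of k))) z) := by
  have H := IsPullback.of_hasPullback (X ↘ (Spec (CommRingCat.of k)))
    (Y ↘ (Spec (CommRingCat.of k)))
  let _ : (pullback (X ↘ (Spec (CommRingCat.of k))) (Y ↘ (Spec (CommRingCat.of k)))).Over
      (Spec (CommRingCat.of k)) :=
    ⟨pullback.snd (X ↘ (Spec (CommRingCat.of k))) (Y ↘ (Spec (CommRingCat.of k))) ≫
      (Y ↘ (Spec (CommRingCat.of k)))⟩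
  have hs : LocallyOfFiniteType (pullback.snd (X ↘ (Spec (CommRingCat.of k)))
    (Y ↘ (Spec (CommRingCat.of k)))) := MorphismProperty.of_isPullback H inferInstance
  have hft : LocallyOfFiniteType
      ((pullback (X ↘ (Spec (CommRingCat.of k))) (Y ↘ (Spec (CommRingCat.of k)))) ↘
        (Spec (CommRingCat.of k))) :=
    inferInstanceAs (LocallyOfFiniteType (_ ≫ _))
  have hfl : Flat (X ↘ (Spec (CommRingCat.of k))) := by
    have : Subsingleton (Spec (CommRingCat.of k)) :=
      inferInstanceAs (Subsingleton (PrimeSpectrum k))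
    infer_instance
  have hfl2 : Flat (pullback.snd (X ↘ (Spec (CommRingCat.of k)))
      (Y ↘ (Spec (CommRingCat.of k)))) := MorphismProperty.of_isPullback H inferInstance
  rw [localDim_eq_add_of_flat k (pullback.snd (X ↘ (Spec (CommRingCat.of k)))
      (Y ↘ (Spec (CommRingCat.of k)))) rfl z (Flat.stalkMap _ z), fibreDimAt_of_isPullback H z,
    fibreDimAt_over_field, add_comm]

end K418.DimFlat
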