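import Groth.Prelude.Def_Flat
import Groth.Agent.VarietyB.DimTop
import Groth.Agent.CalgC.LocalDimBC
import Mathlib.AlgebraicGeometry.PullbackCarrier
import Mathlib.AlgebraicGeometry.Morphisms.FiniteType

/-!
# Local dimension and base field extension

`localDim_of_isPullback`: for a scheme `F` locally of finite type over a field `k`, `K/k` an extension
and `F' = F_K`, the local dimension of `F'` at a point equals that of `F` at its image.
-/

set_option autoImplicit false

universe u

open CategoryTheory CategoryTheory.Limits AlgebraicGeometry TensorProduct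
open Groth.Agent

namespace K418.DimBC

theorem exists_chart {k : Type u} [Field k] {X : Scheme.{u}} (f : X ⟶ Spec (CommRingCat.of k))
    [LocallyOfFiniteType f] (x : X) : ∃ (B : Type u) (_ : CommRing B) (_ : Algebra k B)
      (i : Spec (CommRingCat.of B) ⟶ X) (p : Spec (CommRingCat.of B)), IsOpenImmersion i ∧
      i ≫ f = Spec.map (CommRingCat.ofHom (algebraMap k B)) ∧ i p = x ∧
      Algebra.FiniteType k B := by
  obtain ⟨_, ⟨V, hV, rfl⟩, hxV, -⟩ :=
    X.isBasis_affineOpens.exists_subset_of_mem_open (Set.mem_univ x) isOpen_univ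
  obtain ⟨φ, hφ⟩ := Spec.map_surjective (hV.fromSpec ≫ f)
  let : Algebra k Γ(X, V) := φ.hom.toAlgebra
  have hVo : IsOpenImmersion hV.fromSpec := hV.isOpenImmersion_fromSpec
  obtain ⟨b, hb⟩ : x ∈ Set.range hV.fromSpec := by rw [hV.range_fromSpec]; exact hxV
  refine ⟨Γ(X, V), inferInstance, inferInstance, hV.fromSpec, b, hVo, hφ.symm, hb, ?_⟩
  have h1 : LocallyOfFiniteType (Spec.map φ) := by rw [hφ]; infer_instance
  exact (HasRingHomProperty.Spec_iff (P := @LocallyOfFiniteType)).mp h1

theorem localDim_of_isPullback {k K : Type u} [Field k] [Field K] [Algebra k K]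
    {F F' : Scheme.{u}} {q : F' ⟶ F} {p : F ⟶ Spec (CommRingCat.of k)}
    {p' : F' ⟶ Spec (CommRingCat.of K)} [LocallyOfFiniteType p]
    (H : IsPullback q p' p (Spec.map (CommRingCat.ofHom (algebraMap k K)))) (y : F') :
    FlatMor.localDim F' y = FlatMor.localDim F (q y) := by
  obtain ⟨B, _, _, i, b, _, hi, hb, hft⟩ := exists_chart p (q y)
  -- the chart of `F'`
  have h2 : IsPullback
      (Spec.map (CommRingCat.ofHom (Algebra.TensorProduct.includeLeftRingHom : B →+* B ⊗[k] K)))
      (Spec.map (CommRingCat.ofHom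
        (Algebra.TensorProduct.includeRight : K →ₐ[k] B ⊗[k] K).toRingHom))
      (Spec.map (CommRingCat.ofHom (algebraMap k B)))
      (Spec.map (CommRingCat.ofHom (algebraMap k K))) :=
    isPullback_SpecMap_of_isPushout _ _ _ _ (CommRingCat.isPushout_tensorProduct k B K)
  let j : Spec (CommRingCat.of (B ⊗[k] K)) ⟶ F' := H.lift
    (Spec.map (CommRingCat.ofHom (Algebra.TensorProduct.includeLeftRingHom : B →+* B ⊗[k] K)) ≫ i)
    (Spec.map (CommRingCat.ofHom
        (Algebra.TensorProduct.includeRight : K →ₐ[k] B ⊗[k] K).toRingHom)) (by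
      rw [Category.assoc, hi]; exact h2.w)
  have hj1 : j ≫ q = Spec.map
    (CommRingCat.ofHom (Algebra.TensorProduct.includeLeftRingHom : B →+* B ⊗[k] K)) ≫ i :=
    H.lift_fst _ _ _
  have hj2 : j ≫ p' = Spec.map (CommRingCat.ofHom
        (Algebra.TensorProduct.includeRight : K →ₐ[k] B ⊗[k] K).toRingHom) :=
    H.lift_snd _ _ _
  have hsq : IsPullback j
      (Spec.map (CommRingCat.ofHom (Algebra.TensorProduct.includeLeftRingHom : B →+* B ⊗[k] K)))
      q i := by
    refine IsPullback.of_right (h₁₂ := p') (h₂₂ := p)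
      (v₁₃ := Spec.map (CommRingCat.ofHom (algebraMap k K))) ?_ hj1 H.flip
    rw [hj2, hi]
    exact h2.flip
  have hjo : IsOpenImmersion j := MorphismProperty.of_isPullback hsq.flip inferInstance
  obtain ⟨w, hw, hw'⟩ := Scheme.exists_preimage_of_isPullback hsq y b hb.symm
  rw [← hw, ← Scheme.Hom.comp_apply, hj1, Scheme.Hom.comp_apply, hw',
    ← VarietyB.DimTop.localDim_eq_of_isOpenEmbedding (f := j) j.isOpenEmbedding w,
    ← VarietyB.DimTop.localDim_eq_of_isOpenEmbedding (f := i) i.isOpenEmbedding b]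
  let e : (B ⊗[k] K) ≃+* (K ⊗[k] B) := (Algebra.TensorProduct.comm k B K).toRingEquiv
  let e' : PrimeSpectrum (B ⊗[k] K) ≃ₜ PrimeSpectrum (K ⊗[k] B) :=
    PrimeSpectrum.homeomorphOfRingEquiv e
  have h3 : FlatMor.localDim (PrimeSpectrum (B ⊗[k] K)) w =
      FlatMor.localDim (PrimeSpectrum (K ⊗[k] B)) (e' w) :=
    VarietyB.DimTop.localDim_eq_of_homeomorph e' w
  refine h3.trans ?_
  have : (e' w).asIdeal.IsPrime := (e' w).isPrime
  have hbp : (PrimeSpectrum.asIdeal (R := B) b).IsPrime := PrimeSpectrum.isPrime b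
  refine CalgC.LocalDimBC.localDim_baseChange (PrimeSpectrum.asIdeal (R := B) b) (e' w).asIdeal ?_
  rw [← hw']
  change ((PrimeSpectrum.asIdeal (R := B ⊗[k] K) w).comap (e.symm : (K ⊗[k] B) →+* (B ⊗[k] K))).comap _
    = (PrimeSpectrum.asIdeal (R := B ⊗[k] K) w).comap _
  rw [Ideal.comap_comap]
  congr 1

end K418.DimBC
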