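import Groth.Agent.Variety.K418.SepFld
import Groth.Agent.Variety.K418.DimBC
import Groth.Agent.VarietyA.GlobalSections
import Groth.Agent.Sga3C.LocConn
import Groth.Agent.S0658
import Mathlib.AlgebraicGeometry.Morphisms.Flat
import Mathlib.AlgebraicGeometry.Morphisms.Etale
import Mathlib.AlgebraicGeometry.Noetherian

/-!
# The scheme of connected components of a scheme locally of finite type over a field
-/

set_option autoImplicit false

universe u

open CategoryTheory CategoryTheory.Limits AlgebraicGeometry TopologicalSpace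
open Groth.Agent Groth.Agent.Etalg.SepElt

namespace K418.PiZero

/-- A morphism to an affine scheme through the spectrum of global sections. -/
theorem eq_toSpecΓ_comp {C : Scheme.{u}} {R : CommRingCat.{u}} (h : C ⟶ Spec R) :
    h = C.toSpecΓ ≫ Spec.map ((Scheme.ΓSpecIso R).inv ≫ h.appTop) := by
  rw [Spec.map_comp, ← Scheme.toSpecΓ_naturality_assoc, toSpecΓ_SpecMap_ΓSpecIso_inv,
    Category.comp_id]

/-- The structure map of global sections. -/
noncomputable def glob {k : Type u} [CommRing k] {C : Scheme.{u}}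
    (f : C ⟶ Spec (CommRingCat.of k)) : k →+* Γ(C, ⊤) :=
  ((Scheme.ΓSpecIso (CommRingCat.of k)).inv ≫ f.appTop).hom

theorem ofHom_glob {k : Type u} [CommRing k] {C : Scheme.{u}}
    (f : C ⟶ Spec (CommRingCat.of k)) : CommRingCat.ofHom (glob f) =
      (Scheme.ΓSpecIso (CommRingCat.of k)).inv ≫ f.appTop := rfl

theorem glob_comp {k B : Type u} [CommRing k] [CommRing B] {C : Scheme.{u}}
    (f : C ⟶ Spec (CommRingCat.of k)) (h : C ⟶ Spec (CommRingCat.of B)) (φ : k →+* B)
    (w : h ≫ Spec.map (CommRingCat.ofHom φ) = f) :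
    CommRingCat.ofHom φ ≫ (Scheme.ΓSpecIso (CommRingCat.of B)).inv ≫ h.appTop =
      CommRingCat.ofHom (glob f) := by
  rw [ofHom_glob, ← w, Scheme.Hom.comp_appTop, ← Category.assoc, ← Category.assoc,
    Scheme.ΓSpecIso_inv_naturality]

/-- A nonempty scheme locally of finite type over a field has a point over a finite extension;
here on global sections. -/
theorem exists_finite_point {k : Type u} [Field k] {C : Scheme.{u}} [Nonempty C]
    (f : C ⟶ Spec (CommRingCat.of k)) [LocallyOfFiniteType f] :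
    letI : Algebra k Γ(C, ⊤) := (glob f).toAlgebra
    ∃ (F : Type u) (_ : Field F) (_ : Algebra k F) (_ : Module.Finite k F),
      Nonempty (Γ(C, ⊤) →ₐ[k] F) := by
  let _ : Algebra k Γ(C, ⊤) := (glob f).toAlgebra
  obtain ⟨x⟩ := ‹Nonempty C›
  obtain ⟨B, _, _, i, b, _, hi, -, hft⟩ := DimBC.exists_chart f x
  have hB : Nontrivial B := by
    have : Nonempty (PrimeSpectrum B) := ⟨b⟩
    exact PrimeSpectrum.nonempty_iff_nontrivial.mp this
  obtain ⟨m, hm⟩ := Ideal.exists_maximal B
  let _ : Field (B ⧸ m) := Ideal.Quotient.field m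
  have hfin : Module.Finite k (B ⧸ m) := by
    have : Algebra.FiniteType k (B ⧸ m) :=
      Algebra.FiniteType.of_surjective (Ideal.Quotient.mkₐ k m) Ideal.Quotient.mk_surjective
    exact finite_of_finite_type_of_isJacobsonRing k (B ⧸ m)
  have key : CommRingCat.ofHom (glob f) ≫ i.appTop ≫ (Scheme.ΓSpecIso (CommRingCat.of B)).hom =
      CommRingCat.ofHom (algebraMap k B) := by
    rw [ofHom_glob, Category.assoc, ← Scheme.Hom.comp_appTop_assoc, hi,
      ← Scheme.ΓSpecIso_inv_naturality_assoc, Iso.inv_hom_id, Category.comp_id]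
  let φ : Γ(C, ⊤) →ₐ[k] B :=
    { (i.appTop ≫ (Scheme.ΓSpecIso (CommRingCat.of B)).hom).hom with
      commutes' := fun r => ConcreteCategory.congr_hom key r }
  exact ⟨B ⧸ m, inferInstance, inferInstance, hfin, ⟨(Ideal.Quotient.mkₐ k m).comp φ⟩⟩

theorem exists_affine_part (k : Type u) [Field k] (C : Scheme.{u}) [ConnectedSpace C]
    (f : C ⟶ Spec (CommRingCat.of k)) [LocallyOfFiniteType f] :
    ∃ (S : Type u) (_ : CommRing S) (_ : Algebra k S) (q : C ⟶ Spec (CommRingCat.of S)),
      Algebra.Etale k S ∧ IsField S ∧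
      q ≫ Spec.map (CommRingCat.ofHom (algebraMap k S)) = f ∧
      ∀ (B : Type u) [CommRing B] [Algebra k B] [Algebra.Etale k B]
        (h : C ⟶ Spec (CommRingCat.of B)), h ≫ Spec.map (CommRingCat.ofHom (algebraMap k B)) = f →
        ∃ t : Spec (CommRingCat.of S) ⟶ Spec (CommRingCat.of B),
          t ≫ Spec.map (CommRingCat.ofHom (algebraMap k B)) =
            Spec.map (CommRingCat.ofHom (algebraMap k S)) ∧ q ≫ t = h := by
  let _ : Algebra k Γ(C, ⊤) := (glob f).toAlgebra
  obtain ⟨F, _, _, _, ⟨φ⟩⟩ := exists_finite_point f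
  have hnt : Nontrivial Γ(C, ⊤) := φ.toRingHom.domain_nontrivial
  have hidem : ∀ e : Γ(C, ⊤), IsIdempotentElem e → e = 0 ∨ e = 1 := fun e he =>
    VarietyA.GlobalSections.idem_of_connected C e he
  have hfin := SepFld.finite_sepElt (K := k) hidem φ
  have het := SepFld.etale_sepElt hfin
  let S := sepElt k Γ(C, ⊤)
  let q : C ⟶ Spec (CommRingCat.of S) :=
    C.toSpecΓ ≫ Spec.map (CommRingCat.ofHom (sepElt k Γ(C, ⊤)).val.toRingHom)
  refine ⟨S, inferInstance, inferInstance, q, het, SepFld.isField_sepElt hidem, ?_, ?_⟩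
  · rw [Category.assoc, ← Spec.map_comp]
    conv_rhs => rw [eq_toSpecΓ_comp f]
    rfl
  · intro B _ _ _ h hh
    have hψ := glob_comp f h (algebraMap k B) hh
    let ψ : B →ₐ[k] Γ(C, ⊤) :=
      { ((Scheme.ΓSpecIso (CommRingCat.of B)).inv ≫ h.appTop).hom with
        commutes' := fun r => ConcreteCategory.congr_hom hψ r }
    have hmem : ∀ b, ψ b ∈ sepElt k Γ(C, ⊤) := fun b =>
      map_mem_sepElt ψ (by rw [sepElt_eq_top_of_etale]; exact Algebra.mem_top)
    let ψ' : B →ₐ[k] S := ψ.codRestrict _ hmem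
    refine ⟨Spec.map (CommRingCat.ofHom ψ'.toRingHom), ?_, ?_⟩
    · rw [← Spec.map_comp, ← CommRingCat.ofHom_comp]
      congr 2
      exact ψ'.comp_algebraMap
    · rw [Category.assoc, ← Spec.map_comp, ← CommRingCat.ofHom_comp]
      conv_rhs => rw [eq_toSpecΓ_comp h]
      rfl

/-- Maps from a connected scheme to an étale scheme over a field. -/
theorem exists_desc (k : Type u) [Field k] (C : Scheme.{u}) [ConnectedSpace C]
    (Y : Scheme.{u}) (gY : Y ⟶ Spec (CommRingCat.of k)) [Etale gY] (h : C ⟶ Y) :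
    ∃ (B : Type u) (_ : CommRing B) (_ : Algebra k B) (j : Spec (CommRingCat.of B) ⟶ Y)
      (h' : C ⟶ Spec (CommRingCat.of B)), Algebra.Etale k B ∧
      j ≫ gY = Spec.map (CommRingCat.ofHom (algebraMap k B)) ∧ h' ≫ j = h := by
  have hdisc : DiscreteTopology Y := Groth.Agent.S0658.discrete k Y gY
  obtain ⟨x⟩ : Nonempty C := inferInstance
  obtain ⟨_, ⟨V, hV, rfl⟩, hxV, -⟩ :=
    Y.isBasis_affineOpens.exists_subset_of_mem_open (Set.mem_univ (h x)) isOpen_univ
  obtain ⟨φ, hφ⟩ := Spec.map_surjective (hV.fromSpec ≫ gY)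
  let _ : Algebra k Γ(Y, V) := φ.hom.toAlgebra
  have hVo : IsOpenImmersion hV.fromSpec := hV.isOpenImmersion_fromSpec
  have hrange : Set.range h ⊆ Set.range hV.fromSpec := by
    rw [hV.range_fromSpec]
    rintro _ ⟨c, rfl⟩
    have h1 : (Set.range h).Subsingleton :=
      (isPreconnected_range h.continuous).subsingleton
    rw [h1 ⟨c, rfl⟩ ⟨x, rfl⟩]
    exact hxV
  refine ⟨Γ(Y, V), inferInstance, inferInstance, hV.fromSpec,
    IsOpenImmersion.lift hV.fromSpec h hrange, ?_, hφ.symm, IsOpenImmersion.lift_fac _ _ _⟩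
  have h1 : Etale (Spec.map φ) := by rw [hφ]; infer_instance
  exact (HasRingHomProperty.Spec_iff (P := @Etale)).mp h1

/-- The connected component as an open subscheme. -/
def comp (X : Scheme.{u}) [LocallyConnectedSpace X] (c : ConnectedComponents X) : X.Opens where
  carrier := {x | (x : ConnectedComponents X) = c}
  is_open' := by
    obtain ⟨x, rfl⟩ := ConnectedComponents.surjective_coe c
    have : {x' : X | (x' : ConnectedComponents X) = x} = connectedComponent x :=
      connectedComponents_preimage_singleton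
    rw [this]
    exact isOpen_connectedComponent

theorem connectedSpace_comp (X : Scheme.{u}) [LocallyConnectedSpace X]
    (c : ConnectedComponents X) : ConnectedSpace (comp X c) := by
  obtain ⟨x, rfl⟩ := ConnectedComponents.surjective_coe c
  have h1 : ((comp X x : X.Opens) : Set X) = connectedComponent x :=
    connectedComponents_preimage_singleton
  have h2 : _root_.IsConnected ((comp X x : X.Opens) : Set X) := by
    rw [h1]; exact isConnected_connectedComponent
  exact isConnected_iff_connectedSpace.mp h2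

theorem nonempty_isColimit_comp (X : Scheme.{u}) [LocallyConnectedSpace X] :
    Nonempty (IsColimit (Cofan.mk X (fun c : ConnectedComponents X => (comp X c).ι))) := by
  apply nonempty_isColimit_cofanMk_of
  · rw [eq_top_iff]
    rintro x -
    refine Opens.mem_iSup.mpr ⟨(x : ConnectedComponents X), ?_⟩
    rw [Scheme.Opens.opensRange_ι]
    exact rfl
  · intro c c' hcc
    simp only [Scheme.Opens.opensRange_ι]
    change Disjoint (comp X c) (comp X c')
    rw [disjoint_iff, eq_bot_iff]
    rintro x ⟨hx, hx'⟩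
    exact hcc (hx.symm.trans hx')

theorem main (k : Type u) [Field k]
    (X : Scheme.{u}) (f : X ⟶ Spec (CommRingCat.of k)) [LocallyOfFiniteType f] :
    ∃ (P : Scheme.{u}) (g : P ⟶ Spec (CommRingCat.of k)) (q : X ⟶ P), Etale g ∧ q ≫ g = f ∧
      (∀ (Y : Scheme.{u}) (gY : Y ⟶ Spec (CommRingCat.of k)) (h : X ⟶ Y), Etale gY → h ≫ gY = f →
        ∃! t : P ⟶ Y, t ≫ gY = g ∧ q ≫ t = h) ∧
      Flat q ∧ Surjective q ∧
      ∀ x : ↥X, (fun x' : ↥X => q x') ⁻¹' {q x} = connectedComponent x := by
  have hX : IsLocallyNoetherian X := LocallyOfFiniteType.isLocallyNoetherian f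
  have hlc : LocallyConnectedSpace X :=
    Sga3C.LocConn.locallyConnectedSpace_of_isLocallyNoetherian X
  have hconn : ∀ c, ConnectedSpace (comp X c) := connectedSpace_comp X
  obtain ⟨hcol⟩ := nonempty_isColimit_comp X
  choose S hS hSk qc het hfld hq huniv using fun c : ConnectedComponents X =>
    exists_affine_part k (comp X c : Scheme.{u}) ((comp X c).ι ≫ f)
  let P : Scheme.{u} := ∐ fun c : ConnectedComponents X => Spec (CommRingCat.of (S c))
  let g : P ⟶ Spec (CommRingCat.of k) :=
    Sigma.desc fun c => Spec.map (CommRingCat.ofHom (algebraMap k (S c)))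
  let q : X ⟶ P := Cofan.IsColimit.desc hcol
    (fun c => qc c ≫ Sigma.ι (fun c : ConnectedComponents X => Spec (CommRingCat.of (S c))) c)
  have hιq : ∀ c, (comp X c).ι ≫ q =
      qc c ≫ Sigma.ι (fun c : ConnectedComponents X => Spec (CommRingCat.of (S c))) c :=
    fun c => Cofan.IsColimit.fac hcol _ c
  have hιg : ∀ c, Sigma.ι (fun c : ConnectedComponents X => Spec (CommRingCat.of (S c))) c ≫ g =
      Spec.map (CommRingCat.ofHom (algebraMap k (S c))) := fun c => Sigma.ι_desc _ _
  have hqg : q ≫ g = f := by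
    refine Cofan.IsColimit.hom_ext hcol _ _ fun c => ?_
    change (comp X c).ι ≫ q ≫ g = (comp X c).ι ≫ f
    rw [← Category.assoc, hιq, Category.assoc, hιg, hq]
  have hgE : Etale g := by
    have hloc : IsZariskiLocalAtSource (@AlgebraicGeometry.Etale.{u}) :=
      HasRingHomProperty.instIsZariskiLocalAtSource (Q := RingHom.Etale)
    refine IsZariskiLocalAtSource.sigmaDesc (P := @Etale) fun c => ?_
    refine (HasRingHomProperty.Spec_iff (P := @Etale)).mpr ?_
    rw [CommRingCat.hom_ofHom, RingHom.etale_algebraMap]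
    exact het c
  have hsub : ∀ c, Subsingleton (Spec (CommRingCat.of (S c))) := fun c =>
    letI := (hfld c).toField
    inferInstanceAs (Subsingleton (PrimeSpectrum (S c)))
  have hdom : ∀ c, IsDomain (S c) := fun c => (hfld c).isDomain
  have hq0 : ∀ c, Flat (qc c) := fun c => inferInstance
  have hcov : iSup (fun c => comp X c) = ⊤ := by
    rw [eq_top_iff]
    rintro x -
    exact Opens.mem_iSup.mpr ⟨(x : ConnectedComponents X), rfl⟩
  have hflat : Flat q := by
    have hloc : IsZariskiLocalAtSource (@AlgebraicGeometry.Flat.{u}) :=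
      HasRingHomProperty.instIsZariskiLocalAtSource (Q := RingHom.Flat)
    refine IsZariskiLocalAtSource.of_iSup_eq_top (P := @Flat) (fun c => comp X c) hcov fun c => ?_
    rw [hιq c]
    infer_instance
  have hpt : ∀ p : P, ∃ (c : ConnectedComponents X) (s : Spec (CommRingCat.of (S c))),
      Sigma.ι (fun c : ConnectedComponents X => Spec (CommRingCat.of (S c))) c s = p := by
    intro p
    obtain ⟨s, hs⟩ := (sigmaOpenCover
      (fun c : ConnectedComponents X => Spec (CommRingCat.of (S c)))).covers p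
    exact ⟨_, s, hs⟩
  have hqval : ∀ (c : ConnectedComponents X) (x : X) (hx : x ∈ comp X c),
      q x = Sigma.ι (fun c : ConnectedComponents X => Spec (CommRingCat.of (S c))) c
        (qc c ⟨x, hx⟩) := by
    intro c x hx
    calc q x = q ((comp X c).ι ⟨x, hx⟩) := rfl
      _ = ((comp X c).ι ≫ q) ⟨x, hx⟩ := (Scheme.Hom.comp_apply _ _ _).symm
      _ = (qc c ≫ Sigma.ι (fun c : ConnectedComponents X => Spec (CommRingCat.of (S c))) c)
          ⟨x, hx⟩ := by rw [hιq]
      _ = _ := Scheme.Hom.comp_apply _ _ _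
  have hsurj : Surjective q := by
    refine ⟨fun p => ?_⟩
    obtain ⟨c, s, rfl⟩ := hpt p
    obtain ⟨x⟩ : Nonempty (comp X c) := (hconn c).toNonempty
    refine ⟨x.1, ?_⟩
    rw [hqval c x.1 x.2]
    congr 1
    exact (hsub c).elim _ _
  refine ⟨P, g, q, hgE, hqg, ?_, hflat, hsurj, ?_⟩
  · intro Y gY h hY hh
    have : Epi q := Flat.epi_of_flat_of_surjective q
    have ht : ∀ c, ∃ t : Spec (CommRingCat.of (S c)) ⟶ Y,
        t ≫ gY = Spec.map (CommRingCat.ofHom (algebraMap k (S c))) ∧
          qc c ≫ t = (comp X c).ι ≫ h := by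
      intro c
      obtain ⟨B, _, _, j, h', hB, hj, hh'⟩ := exists_desc k (comp X c : Scheme.{u}) Y gY
        ((comp X c).ι ≫ h)
      obtain ⟨t, ht1, ht2⟩ := huniv c B h' (by rw [← hj, ← Category.assoc, hh', Category.assoc, hh])
      refine ⟨t ≫ j, by rw [Category.assoc, hj, ht1], by rw [← Category.assoc, ht2, hh']⟩
    choose t ht1 ht2 using ht
    refine ⟨Sigma.desc t, ⟨?_, ?_⟩, ?_⟩
    · refine Sigma.hom_ext _ _ fun c => ?_
      rw [← Category.assoc, Sigma.ι_desc, ht1, hιg]
    · refine Cofan.IsColimit.hom_ext hcol _ _ fun c => ?_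
      change (comp X c).ι ≫ q ≫ Sigma.desc t = (comp X c).ι ≫ h
      rw [← Category.assoc, hιq, Category.assoc, Sigma.ι_desc, ht2]
    · rintro t' ⟨-, ht'⟩
      rw [← cancel_epi q, ht']
      refine Cofan.IsColimit.hom_ext hcol _ _ fun c => ?_
      change (comp X c).ι ≫ h = (comp X c).ι ≫ q ≫ Sigma.desc t
      rw [← Category.assoc _ q, hιq, Category.assoc, Sigma.ι_desc, ht2]
  · intro x
    rw [← connectedComponents_preimage_singleton]
    ext x'
    simp only [Set.mem_preimage, Set.mem_singleton_iff]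
    constructor
    · intro h
      have h1 := hqval (x : ConnectedComponents X) x rfl
      have h2 := hqval (x' : ConnectedComponents X) x' rfl
      rw [h, h1] at h2
      have h3 := (sigmaι_eq_iff _ _ _ _ _).mp h2
      exact (congrArg Sigma.fst h3).symm
    · intro h
      have h1 := hqval (x : ConnectedComponents X) x rfl
      have h2 := hqval (x : ConnectedComponents X) x' h
      rw [h1, h2]
      congr 1
      exact (hsub _).elim _ _

end K418.PiZero
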