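import Groth.Agent.Variety.K418.HypSec
import Groth.Agent.SmVar.K658.SecSmooth

/-!
# General hyperplane sections of normal projective varieties are integral
-/

set_option autoImplicit false

universe u

open CategoryTheory CategoryTheory.Limits AlgebraicGeometry Topology CohB1
open Groth.Agent Groth.Agent.VarietyB
open K426 K426.ProjCut

namespace K418.HypInt

variable {k : Type u} [Field k] {n : ℕ}
variable {X : Scheme.{u}} [AlgebraicGeometry.IsIntegral X] (ι : X ⟶ ProjSpace n k) [IsClosedImmersion ι]

/-- The coefficients of a linear form. -/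
noncomputable abbrev cf (h : CohB1.polyGrading n k 1) : Fin (n + 1) → k :=
  fun i => MvPolynomial.coeff (Finsupp.single i 1) (h : MvPolynomial (Fin (n + 1)) k)

theorem specializes_iff_mem_range (w : ProjSpace n k) : ι (genericPoint X) ⤳ w ↔ w ∈ Set.range ι := by
  rw [specializes_iff_mem_closure]
  have h1 : closure {ι (genericPoint X)} = Set.range ι := by
    have h2 := ι.isClosedEmbedding.isClosedMap.closure_image_eq_of_continuous ι.continuous {genericPoint X}
    rw [Set.image_singleton, genericPoint_closure, Set.image_univ] at h2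
    exact h2
  rw [h1]

theorem trd_eq (d : ℕ) (hd : topologicalKrullDim X = d) :
    DimSch.trd k (ProjSpace n k) (ι (genericPoint X)) = d := by
  have h1 : closure {ι (genericPoint X)} = Set.range ι := by
    ext w
    rw [← specializes_iff_mem_closure, specializes_iff_mem_range]
  have h2 := DimKit.dim_closure k (ProjSpace n k) (ι (genericPoint X))
  let e : X ≃ₜ (closure {ι (genericPoint X)} : Set (ProjSpace n k)) :=
    (ι.isEmbedding.toHomeomorph).trans (Homeomorph.setCongr h1.symm)
  rw [← IsHomeomorph.topologicalKrullDim_eq e e.isHomeomorph, hd] at h2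
  exact_mod_cast h2.symm

omit [AlgebraicGeometry.IsIntegral X] in
include ι in
theorem isClosed_sing [PerfectField k] : IsClosed {x : X | ¬ IsRegularLocalRing (X.presheaf.stalk x)} := by
  let _ : X.Over (Spec (CommRingCat.of k)) := ⟨ι ≫ ProjSpace.toSpec n k⟩
  have hP := ProjSpaceProper.isProper_toSpec n k
  have hprop : IsProper (X ↘ Spec (CommRingCat.of k)) := inferInstanceAs (IsProper (ι ≫ ProjSpace.toSpec n k))
  have hlfp : LocallyOfFinitePresentation (X ↘ Spec (CommRingCat.of k)) := inferInstance
  have h1 : {x : X | ¬ IsRegularLocalRing (X.presheaf.stalk x)} =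
      ((X ↘ (Spec (CommRingCat.of k))).smoothLocus : Set X)ᶜ := by
    ext x
    exact (not_congr (Groth.Agent.VarietyA.SmoothReg.mem_smoothLocus_iff_of_perfectField _ x)).symm
  rw [h1]
  exact (X ↘ (Spec (CommRingCat.of k))).smoothLocus.2.isClosed_compl

omit [AlgebraicGeometry.IsIntegral X] in
include ι in
theorem isNoetherian_X : IsNoetherian X := by
  have hP := ProjSpaceProper.isProper_toSpec n k
  have hprop : IsProper (ι ≫ ProjSpace.toSpec n k) := inferInstance
  have h1 : IsLocallyNoetherian X := LocallyOfFiniteType.isLocallyNoetherian (ι ≫ ProjSpace.toSpec n k)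
  have h2 : CompactSpace X := QuasiCompact.compactSpace_of_compactSpace (ι ≫ ProjSpace.toSpec n k)
  exact {}

/-- **Bertini for normal varieties**, topological part. -/
theorem exists_poly [Infinite k] [PerfectField k] (hX : Pi1.IsNormalScheme X)
    (d : ℕ) (hd : topologicalKrullDim X = d) (h2 : 2 ≤ d) :
    ∃ G : MvPolynomial (Fin (n + 1)) k, G ≠ 0 ∧ ∀ h : CohB1.polyGrading n k 1,
      MvPolynomial.eval (cf h) G ≠ 0 →
        (h : MvPolynomial (Fin (n + 1)) k) ∉ idl (ι (genericPoint X)) ∧
        (∀ j, HypSmooth.TransvReg (K658.ProjSec.θ (n := n) (k := k) ι j h)) ∧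
        ∃ c : X, {x : X | (h : MvPolynomial (Fin (n + 1)) k) ∈ idl (ι x)} = closure {c} := by
  classical
  have hN := isNoetherian_X ι
  have hι : @IsClosedImmersion X (Proj (CohB1.polyGrading n k)) ι := ‹IsClosedImmersion ι›
  let S : Set X := {x : X | ¬ IsRegularLocalRing (X.presheaf.stalk x)}
  let T : Set (ProjSpace n k) := ι '' S
  have hT : IsClosed T := ι.isClosedEmbedding.isClosedMap _ (isClosed_sing ι)
  have hfin := HypIrred.finite_max (k := k) hT
  let F : Finset (ProjSpace n k) := insert (ι (genericPoint X)) hfin.toFinset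
  obtain ⟨G0, hG0, hG0'⟩ := HypSec.exists_good_reg ι
  choose G hG hG' using HypSec.exists_poly_notMem (k := k) (n := n)
  refine ⟨G0 * ∏ z ∈ F, G z, mul_ne_zero hG0 (Finset.prod_ne_zero_iff.mpr fun z _ => hG z), fun h hh => ?_⟩
  rw [map_mul, map_prod] at hh
  have hreg := hG0' h (left_ne_zero_of_mul hh)
  have hF : ∀ z ∈ F, (h : MvPolynomial (Fin (n + 1)) k) ∉ idl z := fun z hz =>
    hG' z h (Finset.prod_ne_zero_iff.mp (right_ne_zero_of_mul hh) z hz)
  have hξ := hF _ (Finset.mem_insert_self _ _)
  refine ⟨hξ, hreg, ?_⟩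
  have htrd := trd_eq ι d hd
  have hemb := ι.isEmbedding
  obtain ⟨c, hc⟩ := HypIrred.exists_generic (ι (genericPoint X)) (by rw [htrd]; exact h2)
    (h : MvPolynomial (Fin (n + 1)) k) 1 one_pos h.2 hξ T hT
    (by
      rintro _ ⟨x, hx, rfl⟩
      obtain ⟨y, hyx, hne, hne'⟩ := HypSec.exists_between hX x hx
      have h3 := Cut.trd_lt k (X := ProjSpace n k) (hyx.map ι.continuous) (fun e => hne (hemb.injective e))
      have h4 := Cut.trd_lt k (X := ProjSpace n k) ((genericPoint_specializes y).map ι.continuous)
        (fun e => hne' (hemb.injective e).symm)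
      omega)
    (fun τ hτ hmax => hF τ (Finset.mem_insert_of_mem ((Set.Finite.mem_toFinset hfin).mpr ⟨hτ, hmax⟩)))
    (by
      intro w hw hwT hhw c c' hc hc' hhc hhc' hmax hmax' hcw hcw'
      rw [specializes_iff_mem_range] at hw hc hc'
      obtain ⟨x, rfl⟩ := hw
      obtain ⟨y, rfl⟩ := hc
      obtain ⟨y', rfl⟩ := hc'
      have hx : IsRegularLocalRing (X.presheaf.stalk x) := by
        by_contra hx
        exact hwT ⟨x, hx, rfl⟩
      obtain ⟨z, hz, hhz, hz'⟩ := HypSec.eq_of_transv ι h hreg x hx hhw
      have h5 := hz' y (hemb.isInducing.specializes_iff.mp hcw) hhc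
      have h6 := hz' y' (hemb.isInducing.specializes_iff.mp hcw') hhc'
      have h7 := hmax (ι z) ((genericPoint_specializes z).map ι.continuous) hhz (h5.map ι.continuous)
      have h8 := hmax' (ι z) ((genericPoint_specializes z).map ι.continuous) hhz (h6.map ι.continuous)
      rw [← h7, ← h8])
  have hcmem : c ∈ {w : ProjSpace n k | ι (genericPoint X) ⤳ w ∧ (h : MvPolynomial (Fin (n + 1)) k) ∈ idl w} := by
    rw [hc]
    exact subset_closure rfl
  obtain ⟨c0, rfl⟩ := (specializes_iff_mem_range ι c).mp hcmem.1
  refine ⟨c0, ?_⟩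
  ext x
  have h9 : ι x ∈ {w : ProjSpace n k | ι (genericPoint X) ⤳ w ∧ (h : MvPolynomial (Fin (n + 1)) k) ∈ idl w} ↔
      ι x ∈ closure {ι c0} := by rw [hc]
  rw [← specializes_iff_mem_closure, hemb.isInducing.specializes_iff, specializes_iff_mem_closure] at h9
  rw [← h9]
  exact ⟨fun hx => ⟨(genericPoint_specializes x).map ι.continuous, hx⟩, fun hx => hx.2⟩

omit [AlgebraicGeometry.IsIntegral X] in
/-- Reducedness of a closed subscheme, checked on affine opens covering the ambient scheme. -/
theorem isReduced_subscheme (J : X.IdealSheafData) {I : Type*} (W : I → X.affineOpens)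
    (hW : ∀ x : X, ∃ i, x ∈ (W i).1) (h : ∀ i, _root_.IsReduced (Γ(X, (W i).1) ⧸ J.ideal (W i))) :
    IsReduced J.subscheme := by
  have hop : ∀ i, IsOpenImmersion (J.subschemeCover.f (W i)) := fun i => J.subschemeCover.map_prop (W i)
  let 𝒰 : J.subscheme.OpenCover := Scheme.Cover.mkOfCovers I (fun i => _)
    (fun i => J.subschemeCover.f (W i))
    (fun x => by
      obtain ⟨i, hi⟩ := hW (J.subschemeι x)
      have h1 : x ∈ (J.subschemeCover.f (W i)).opensRange := by
        rw [J.opensRange_subschemeCover_map]; exact hi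
      obtain ⟨y, hy⟩ := h1
      exact ⟨i, y, hy⟩) hop
  have h2 : ∀ i, IsReduced (𝒰.X i) := by
    intro (i : I)
    change IsReduced (Spec (CommRingCat.of (Γ(X, (W i).1) ⧸ J.ideal (W i))))
    have := h i
    infer_instance
  exact IsReduced.of_openCover (X := J.subscheme) 𝒰

omit [AlgebraicGeometry.IsIntegral X] in
theorem irreducibleSpace_subscheme (J : X.IdealSheafData) (c : X) (hr : (J.support : Set X) = closure {c}) :
    IrreducibleSpace J.subscheme := by
  have hemb : IsEmbedding J.subschemeι := J.subschemeι.isEmbedding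
  have h1 : Set.range J.subschemeι = closure {c} := by
    rw [Scheme.IdealSheafData.range_subschemeι, hr]
  have h2 : IsIrreducible (Set.range J.subschemeι) := by
    rw [h1]
    exact isIrreducible_singleton.closure
  have h3 : IrreducibleSpace (Set.range J.subschemeι) := isIrreducible_iff_irreducibleSpace.mp h2
  exact hemb.toHomeomorph.irreducibleSpace_iff.mpr h3

/-- Integrality of a hyperplane section from its topology and transversality at the regular points. -/
theorem isIntegral_section (X : Scheme.{u}) [AlgebraicGeometry.IsIntegral X] [IsLocallyNoetherian X]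
    (hX : Pi1.IsNormalScheme X) (ι : X ⟶ Proj (CohB1.polyGrading n k)) [IsClosedImmersion ι]
    (h : CohB1.polyGrading n k 1)
    (hξ : (h : MvPolynomial (Fin (n + 1)) k) ∉ idl (ι (genericPoint X)))
    (hreg : ∀ j, HypSmooth.TransvReg (K658.ProjSec.θ ι j h)) (c : X)
    (hc : {x : X | (h : MvPolynomial (Fin (n + 1)) k) ∈ idl (ι x)} = closure {c}) :
    AlgebraicGeometry.IsIntegral (pullback ι
      (PicF2.zeroScheme (Twist.twist (CohB1.polyGrading n k) 1) (K658.SecSmooth.secOf h)).subschemeι) := by
  let Z := PicF2.zeroScheme (Twist.twist (CohB1.polyGrading n k) 1) (K658.SecSmooth.secOf h)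
  let J := Z.comap ι
  let Waff : Fin (n + 1) → X.affineOpens := fun j => ⟨K658.ProjSec.W ι j, K658.ProjSec.isAffineOpen_W ι j⟩
  have h1 : ∀ j, J.ideal (Waff j) = Ideal.span {K658.ProjSec.θ ι j h} := by
    intro j
    rw [Groth.Agent.Divis.IdealComap.ideal_comap Z ι (K658.SecSmooth.Daff k n j) (Waff j) le_rfl,
      K658.SecSmooth.ideal_zeroScheme, K658.ProjSec.θ_lin, Scheme.Hom.app_eq_appLE]
    refine (Ideal.map_span _ _).trans ?_
    exact congrArg Ideal.span (Set.image_singleton)
  have hred : IsReduced J.subscheme := by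
    refine isReduced_subscheme J Waff (K658.ProjSec.exists_mem_W ι) fun i => ?_
    rw [h1]
    rcases isEmpty_or_nonempty (Waff i).1 with he | hne
    · have hbot : (Waff i).1 = ⊥ := by
        rw [eq_bot_iff]
        intro x hx
        exact he.elim ⟨x, hx⟩
      have hsub : Subsingleton Γ(X, (Waff i).1) := by
        rw [hbot]
        infer_instance
      have : Subsingleton (Γ(X, (Waff i).1) ⧸ Ideal.span {K658.ProjSec.θ ι i h}) :=
        Function.Surjective.subsingleton Ideal.Quotient.mk_surjective
      infer_instance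
    · have hNW : IsNoetherianRing Γ(X, (Waff i).1) := IsLocallyNoetherian.component_noetherian (Waff i)
      have hIC : IsIntegrallyClosed Γ(X, (Waff i).1) :=
        Ega2.Normal.isIntegrallyClosed_of_isAffineOpen hX (Waff i).2 hne
      refine (hreg i).isReduced_quotient ?_
      intro h0
      have hη : genericPoint X ∈ (Waff i).1 := by
        obtain ⟨⟨x, hx⟩⟩ := hne
        exact (genericPoint_specializes x).mem_open (Waff i).1.2 hx
      have h4 := (K658.ProjSec.mem_basicOpen_θ ι i (genericPoint X) hη h).mpr hξ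
      rw [h0, Scheme.basicOpen_zero] at h4
      exact h4
  have hirr : IrreducibleSpace J.subscheme := by
    refine irreducibleSpace_subscheme J c ?_
    rw [Scheme.IdealSheafData.support_comap, ← hc]
    ext x
    exact K658.SecSmooth.mem_support_iff h (ι x)
  have hint : AlgebraicGeometry.IsIntegral J.subscheme := isIntegral_of_irreducibleSpace_of_isReduced _
  exact IsIntegral.of_isIso (Z.comapIso ι).hom

/-- **Bertini for normal varieties**: general hyperplane sections of a normal projective variety of dimension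
at least two over an infinite perfect field are integral. -/
theorem exists_poly_isIntegral [Infinite k] [PerfectField k] (hX : Pi1.IsNormalScheme X)
    (d : ℕ) (hd : topologicalKrullDim X = d) (h2 : 2 ≤ d) :
    ∃ G : MvPolynomial (Fin (n + 1)) k, G ≠ 0 ∧ ∀ h : CohB1.polyGrading n k 1,
      MvPolynomial.eval (cf h) G ≠ 0 →
        (h : MvPolynomial (Fin (n + 1)) k) ∉ idl (ι (genericPoint X)) ∧
        AlgebraicGeometry.IsIntegral (pullback (Z := Proj (CohB1.polyGrading n k)) ι
          (PicF2.zeroScheme (Twist.twist (CohB1.polyGrading n k) 1) (K658.SecSmooth.secOf h)).subschemeι) := by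
  have hN := isNoetherian_X ι
  have hι : @IsClosedImmersion X (Proj (CohB1.polyGrading n k)) ι := ‹IsClosedImmersion ι›
  obtain ⟨G, hG, hG'⟩ := exists_poly ι hX d hd h2
  refine ⟨G, hG, fun h hh => ?_⟩
  obtain ⟨hξ, hreg, c, hc⟩ := hG' h hh
  exact ⟨hξ, isIntegral_section X hX ι h hξ hreg c hc⟩

end K418.HypInt
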