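import Groth.Agent.Variety.K418.Irred
import Mathlib.RingTheory.Artinian.Ring

/-!
# Geometric connectedness can be tested on finite separable extensions
-/

set_option autoImplicit false
universe u
open CategoryTheory CategoryTheory.Limits AlgebraicGeometry TopologicalSpace TensorProduct Polynomial

namespace K418.FinSepConn

open K418.PreimClosed K418.GalComp

theorem connected_tensor_self (k : Type u) [Field k] (L : Type u) [Field L] [Algebra k L]
    [FiniteDimensional k L] [Algebra.IsSeparable k L]
    (h : ConnectedSpace (PrimeSpectrum (L ⊗[k] L))) : Function.Surjective (algebraMap k L) := by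
  refine Groth.Agent.VarietyA.GeomIrr.surjective_of_isPrime_nilradical k L L ?_
  rw [← PrimeSpectrum.irreducibleSpace_iff_isPrime_nilradical]
  have : IsArtinianRing (L ⊗[k] L) := IsArtinianRing.of_finite L (L ⊗[k] L)
  have : DiscreteTopology (PrimeSpectrum (L ⊗[k] L)) := inferInstance
  have : Subsingleton (PrimeSpectrum (L ⊗[k] L)) :=
    PreconnectedSpace.trivial_of_discrete
  exact @IrreducibleSpace.mk _ _ ⟨Set.subsingleton_univ.isPreirreducible⟩ inferInstance

theorem connectedSpace_tensor_self {k : Type u} [Field k] {L : Type u} [Field L] [Algebra k L]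
    {X : Scheme.{u}} [Nonempty X] (h : X ⟶ Spec (CommRingCat.of L))
    (hc : ConnectedSpace ↥(pullback (h ≫ Spec.map (CommRingCat.ofHom (algebraMap k L)))
      (Spec.map (CommRingCat.ofHom (algebraMap k L))))) :
    ConnectedSpace (PrimeSpectrum (L ⊗[k] L)) := by
  set s := Spec.map (CommRingCat.ofHom (algebraMap k L)) with hs
  have h1 : ConnectedSpace ↥(pullback h (pullback.fst s s)) :=
    ((pullbackRightPullbackFstIso s s h).hom.homeomorph.connectedSpace_iff).2 hc
  have h2 : Surjective h := Groth.Agent.VarietyB.BaseExt1.surjective_of_subsingleton _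
  have h3 : ConnectedSpace ↥(pullback s s) :=
    Groth.Agent.VarietyB.BaseExt1.connectedSpace_of_surjective (pullback.snd h (pullback.fst s s))
  exact ((pullbackSpecIso k L L).hom.homeomorph.connectedSpace_iff).1 h3

theorem geometricallyConnected_iff_finite_separable (k : Type u) [Field k] (X : Scheme.{u})
    (f : X ⟶ Spec (CommRingCat.of k)) :
    GeometricallyConnected f ↔
      ∀ (k' : Type u) [Field k'] [Algebra k k'] [FiniteDimensional k k'] [Algebra.IsSeparable k k'],
        ConnectedSpace ↥(pullback f (Spec.map (CommRingCat.ofHom (algebraMap k k')))) := by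
  constructor
  · intro h k' _ _ _ _
    exact (K418.GalComp.geometricallyConnected_iff k f).1 h k'
  · intro h
    have hX : ConnectedSpace X := by
      have hs : Surjective (Spec.map (CommRingCat.ofHom (algebraMap k k))) :=
        Groth.Agent.VarietyB.BaseExt1.surjective_of_subsingleton _
      have := h k
      exact Groth.Agent.VarietyB.BaseExt1.connectedSpace_of_surjective
        (pullback.fst f (Spec.map (CommRingCat.ofHom (algebraMap k k))))
    obtain ⟨ρ, hρ⟩ : ∃ ρ : k →+* Γ(X, ⊤), f = X.toSpecΓ ≫ Spec.map (CommRingCat.ofHom ρ) := by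
      refine ⟨((Scheme.ΓSpecIso (CommRingCat.of k)).inv ≫ f.appTop).hom, ?_⟩
      rw [CommRingCat.ofHom_hom, Spec.map_comp, ← Category.assoc, ← Scheme.toSpecΓ_naturality,
        Category.assoc, ← Scheme.isoSpec_Spec_inv, Scheme.toSpecΓ_isoSpec_inv, Category.comp_id]
    let _ : Algebra k Γ(X, ⊤) := ρ.toAlgebra
    have hnt : Nontrivial Γ(X, ⊤) := by
      have : Nonempty (⊤ : X.Opens) := ⟨⟨Classical.arbitrary X, trivial⟩⟩
      infer_instance
    obtain ⟨L, _, _, φ, hsep, hcl⟩ := Groth.Agent.VarietyB.SepInRing.exists_sepClosure_in (k := k)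
      (A := Γ(X, ⊤)) (Groth.Agent.VarietyB.GabberConn.eq_zero_or_one_of_idem X)
    let g : X ⟶ Spec (CommRingCat.of L) :=
      X.toSpecΓ ≫ Spec.map (CommRingCat.ofHom (φ : L →+* Γ(X, ⊤)))
    have hg : GeometricallyConnected g :=
      Groth.Agent.VarietyB.GabberConn.geometricallyConnected X L φ hcl
    have hgf : g ≫ Spec.map (CommRingCat.ofHom (algebraMap k L)) = f := by
      rw [hρ, Category.assoc, ← Spec.map_comp, ← CommRingCat.ofHom_comp]
      congr 3
      ext x
      exact φ.commutes x
    have hbij : Function.Surjective (algebraMap k L) := by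
      intro a
      let k' := IntermediateField.adjoin k {a}
      have ha : IsSeparable k a := Algebra.IsSeparable.isSeparable k a
      have : FiniteDimensional k k' := IntermediateField.adjoin.finiteDimensional ha.isIntegral
      have : Algebra.IsSeparable k k' :=
        (IntermediateField.isSeparable_adjoin_simple_iff_isSeparable k L).2 ha
      have h1 := h k'
      have h2 : f = (g ≫ Spec.map (CommRingCat.ofHom (algebraMap k' L))) ≫
          Spec.map (CommRingCat.ofHom (algebraMap k k')) := by
        rw [Category.assoc, ← Spec.map_comp, ← CommRingCat.ofHom_comp,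
          ← IsScalarTower.algebraMap_eq, hgf]
      rw [h2] at h1
      obtain ⟨c, hc⟩ := connected_tensor_self k k' (connectedSpace_tensor_self _ h1)
        ⟨a, IntermediateField.mem_adjoin_simple_self k a⟩
      exact ⟨c, congrArg Subtype.val hc⟩
    have hiso : IsIso (Spec.map (CommRingCat.ofHom (algebraMap k L))) := by
      have : IsIso (CommRingCat.ofHom (algebraMap k L)) := by
        rw [ConcreteCategory.isIso_iff_bijective]
        exact ⟨(algebraMap k L).injective, hbij⟩
      infer_instance
    rw [← hgf, GeometricallyConnected.eq_geometrically, geometrically_eq_universally]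
    rw [GeometricallyConnected.eq_geometrically, geometrically_eq_universally] at hg
    exact (@MorphismProperty.cancel_right_of_respectsIso _ _ _
      (MorphismProperty.universally_respectsIso _) _ _ _ g _ hiso).2 hg

end K418.FinSepConn
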