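import Groth.Agent.Variety.K418.GalTop
import Groth.Agent.VarietyB.GabberConn
import Groth.Agent.Ega1.FieldExtComp
import Mathlib.FieldTheory.SeparableClosure

/-!
# Galois invariant connected / irreducible components
-/

set_option autoImplicit false
universe u
open CategoryTheory CategoryTheory.Limits AlgebraicGeometry TopologicalSpace
open Groth.Agent.VarietyB.BaseExt3

namespace K418.GalComp

open K418.GalTop K418.PreimClosed

/-- To check `geometrically P` over a field it suffices to use extension fields. -/
theorem geometricallyConnected_iff (k : Type u) [Field k] {X : Scheme.{u}}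
    (f : X ⟶ Spec (CommRingCat.of k)) :
    GeometricallyConnected f ↔ ∀ (K : Type u) [Field K] [Algebra k K],
      ConnectedSpace ↥(pullback f (Spec.map (CommRingCat.ofHom (algebraMap k K)))) := by
  constructor
  · intro h K _ _
    exact h.1 _ _ _ (IsPullback.of_hasPullback _ _)
  · intro h
    exact ⟨geometrically_iff_of_commRing_of_isClosedUnderIsomorphisms.mpr fun K _ _ => h K⟩

theorem geometricallyIrreducible_iff (k : Type u) [Field k] {X : Scheme.{u}}
    (f : X ⟶ Spec (CommRingCat.of k)) :
    GeometricallyIrreducible f ↔ ∀ (K : Type u) [Field K] [Algebra k K],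
      IrreducibleSpace ↥(pullback f (Spec.map (CommRingCat.ofHom (algebraMap k K)))) := by
  constructor
  · intro h K _ _
    exact h.1 _ _ _ (IsPullback.of_hasPullback _ _)
  · intro h
    exact ⟨geometrically_iff_of_commRing_of_isClosedUnderIsomorphisms.mpr fun K _ _ => h K⟩

variable (k : Type u) [Field k] (X : Scheme.{u}) [X.Over (Spec (CommRingCat.of k))]

/-- a closed subset is geometrically connected iff connected over the separable closure -/
theorem isConnected_preimage_of_sepClosure (T : Set X) (hT : IsClosed T)
    (h : _root_.IsConnected (Curv2.bcFst k X (SeparableClosure k) ⁻¹' T))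
    (K : Type u) [Field K] [Algebra k K] : _root_.IsConnected (Curv2.bcFst k X K ⁻¹' T) := by
  obtain ⟨Z, i, hi, -, rfl⟩ := exists_closed_subscheme X T hT
  rw [isConnected_preimage_iff] at h ⊢
  have h1 := Groth.Agent.VarietyA.GeomIrr.geometricallyConnected_of_connectedSpace_of_isSepClosed
    k (SeparableClosure k) (i ≫ (X ↘ Spec (CommRingCat.of k)))
  exact (geometricallyConnected_iff k _).1 h1 K

theorem isIrreducible_preimage_of_sepClosure (T : Set X) (hT : IsClosed T)
    (h : IsIrreducible (Curv2.bcFst k X (SeparableClosure k) ⁻¹' T))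
    (K : Type u) [Field K] [Algebra k K] : IsIrreducible (Curv2.bcFst k X K ⁻¹' T) := by
  obtain ⟨Z, i, hi, -, rfl⟩ := exists_closed_subscheme X T hT
  rw [isIrreducible_preimage_iff] at h ⊢
  have h1 := Groth.Agent.VarietyA.GeomIrr.geometricallyIrreducible_of_irreducibleSpace_of_isSepClosed
    k (SeparableClosure k) (i ≫ (X ↘ Spec (CommRingCat.of k)))
  exact (geometricallyIrreducible_iff k _).1 h1 K

instance isGalois_separableClosure : IsGalois k (SeparableClosure k) := inferInstance

theorem connectedComponent_iff (t : ↥(Curv2.bc k X (SeparableClosure k))) :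
    (∀ σ : SeparableClosure k ≃ₐ[k] SeparableClosure k,
        Curv2.galAct k X (SeparableClosure k) σ '' connectedComponent t = connectedComponent t) ↔
      (Curv2.bcFst k X (SeparableClosure k) ⁻¹'
          connectedComponent (Curv2.bcFst k X (SeparableClosure k) t) = connectedComponent t ∧
        ∀ (K : Type u) [Field K] [Algebra k K],
          _root_.IsConnected (Curv2.bcFst k X K ⁻¹'
            connectedComponent (Curv2.bcFst k X (SeparableClosure k) t))) := by
  constructor
  · intro h
    have h1 := preimage_image_eq k (SeparableClosure k) X _ h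
    rw [Groth.Agent.VarietyB.GabberConn.image_connectedComponent] at h1
    refine ⟨h1, fun K _ _ => isConnected_preimage_of_sepClosure k X _ isClosed_connectedComponent ?_ K⟩
    rw [h1]
    exact isConnected_connectedComponent
  · rintro ⟨h, -⟩ σ
    rw [← h, image_galAct_preimage]

theorem irreducibleComponent_iff (Z : Set ↥(Curv2.bc k X (SeparableClosure k)))
    (hZ : Z ∈ irreducibleComponents ↥(Curv2.bc k X (SeparableClosure k))) :
    (∀ σ : SeparableClosure k ≃ₐ[k] SeparableClosure k,
        Curv2.galAct k X (SeparableClosure k) σ '' Z = Z) ↔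
      ∃ T ∈ irreducibleComponents ↥X, Curv2.bcFst k X (SeparableClosure k) ⁻¹' T = Z ∧
        ∀ (K : Type u) [Field K] [Algebra k K], IsIrreducible (Curv2.bcFst k X K ⁻¹' T) := by
  constructor
  · intro h
    have h1 := preimage_image_eq k (SeparableClosure k) X _ h
    have h2 : Curv2.bcFst k X (SeparableClosure k) '' Z ∈ irreducibleComponents ↥X :=
      Groth.Agent.Ega1.FieldExtComp.mapsComp_pullback_fst k (X ↘ Spec (CommRingCat.of k))
        (SeparableClosure k) _ hZ
    refine ⟨_, h2, h1, fun K _ _ => isIrreducible_preimage_of_sepClosure k X _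
      (isClosed_of_mem_irreducibleComponents _ h2) ?_ K⟩
    rw [h1]
    exact hZ.1
  · rintro ⟨T, -, h, -⟩ σ
    rw [← h, image_galAct_preimage]

theorem image_eq_iff (Z' Z'' : Set ↥(Curv2.bc k X (SeparableClosure k)))
    (hZ' : Z' ∈ irreducibleComponents ↥(Curv2.bc k X (SeparableClosure k)))
    (hZ'' : Z'' ∈ irreducibleComponents ↥(Curv2.bc k X (SeparableClosure k))) :
    Curv2.bcFst k X (SeparableClosure k) '' Z' = Curv2.bcFst k X (SeparableClosure k) '' Z'' ↔
      ∃ σ : SeparableClosure k ≃ₐ[k] SeparableClosure k,
        Curv2.galAct k X (SeparableClosure k) σ '' Z' = Z'' := by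
  constructor
  · intro h
    have hg' : IsGenericPoint hZ'.1.genericPoint Z' := by
      have := hZ'.1.isGenericPoint_genericPoint_closure
      rwa [(isClosed_of_mem_irreducibleComponents _ hZ').closure_eq] at this
    have hg'' : IsGenericPoint hZ''.1.genericPoint Z'' := by
      have := hZ''.1.isGenericPoint_genericPoint_closure
      rwa [(isClosed_of_mem_irreducibleComponents _ hZ'').closure_eq] at this
    have h1 := hg'.image (Curv2.bcFst k X (SeparableClosure k)).continuous
    have h2 := hg''.image (Curv2.bcFst k X (SeparableClosure k)).continuous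
    rw [h] at h1
    obtain ⟨σ, hσ⟩ := exists_galAct_eq k X (SeparableClosure k) _ _ (h1.eq h2)
    refine ⟨σ, ?_⟩
    have h3 : Curv2.galAct k X (SeparableClosure k) σ '' closure {hZ'.1.genericPoint} =
        closure {Curv2.galAct k X (SeparableClosure k) σ hZ'.1.genericPoint} := by
      have := (galHomeo k (SeparableClosure k) X σ).image_closure {hZ'.1.genericPoint}
      rw [Set.image_singleton] at this
      exact this
    rw [hg'.def, hσ, hg''.def] at h3
    exact h3
  · rintro ⟨σ, rfl⟩
    rw [← Set.image_comp]
    congr 1
    ext y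
    exact (bcFst_galAct_apply k (SeparableClosure k) X σ y).symm

end K418.GalComp
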