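import Groth.Agent.Variety.K418.GalComp
import Groth.Agent.VarietyA.GeomIrrGen
import Groth.Agent.VarietyA.ResMap
import Groth.Agent.VarietyB.SepInRing

/-!
# Irreducible components and geometric irreducibility
-/

set_option autoImplicit false
universe u
open CategoryTheory CategoryTheory.Limits AlgebraicGeometry TopologicalSpace TensorProduct

namespace K418.Irred

open K418.PreimClosed K418.GalComp

/-- Preimages of irreducible components along maps with lifting of generalizations. -/
theorem preimage_eq_sUnion {X Y : Type*} [TopologicalSpace X] [TopologicalSpace Y] [QuasiSober X]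
    [QuasiSober Y] {f : X → Y} (hf : Continuous f) (hg : GeneralizingMap f)
    (T : Set Y) (hT : T ∈ irreducibleComponents Y) :
    f ⁻¹' T = ⋃₀ {Z : Set X | Z ∈ irreducibleComponents X ∧ Z ⊆ f ⁻¹' T} := by
  refine subset_antisymm ?_ (Set.sUnion_subset fun Z hZ => hZ.2)
  intro y hy
  have hTc : IsClosed T := isClosed_of_mem_irreducibleComponents T hT
  obtain ⟨ξ, hξ⟩ := QuasiSober.sober hT.1 hTc
  have h1 : ξ ⤳ f y := by
    rw [specializes_iff_mem_closure, hξ.def]
    exact hy
  obtain ⟨y', hy', hfy'⟩ := hg h1
  refine ⟨irreducibleComponent y', ⟨irreducibleComponent_mem_irreducibleComponents y', ?_⟩, ?_⟩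
  · obtain ⟨ζ, hζ⟩ := QuasiSober.sober isIrreducible_irreducibleComponent
      (isClosed_irreducibleComponent (x := y'))
    have h2 : ζ ⤳ y' := by
      rw [specializes_iff_mem_closure, hζ.def]
      exact mem_irreducibleComponent
    have h3 : f ζ ⤳ ξ := hfy' ▸ h2.map hf
    have h4 : closure {f ζ} ⊆ T := by
      refine hT.2 isIrreducible_singleton.closure ?_
      rw [← hξ.def]
      exact closure_minimal (Set.singleton_subset_iff.mpr (specializes_iff_mem_closure.mp h3))
        isClosed_closure
    intro z hz
    have h5 : ζ ⤳ z := by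
      rw [specializes_iff_mem_closure, hζ.def]
      exact hz
    exact h4 (specializes_iff_mem_closure.1 (h5.map hf))
  · exact (isClosed_irreducibleComponent (x := y')).stableUnderSpecialization hy'
      mem_irreducibleComponent

/-- The fibre of `X_Y → X` over `i` when `i` composed with the structure map is an isomorphism. -/
theorem subsingleton_preimage {X Y S Z : Scheme.{u}} (f : X ⟶ S) (g : Y ⟶ S) (i : Z ⟶ X)
    [IsIso (i ≫ f)] [Subsingleton Y] : (pullback.fst f g ⁻¹' Set.range i).Subsingleton := by
  let e := ((IsPullback.of_hasPullback (pullback.fst f g) i).flip.paste_vert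
    (IsPullback.of_hasPullback f g)).isoPullback
  have h1 : Subsingleton ↥(pullback (i ≫ f) g) :=
    (inferInstance : IsIso (pullback.snd (i ≫ f) g)) |> fun _ =>
      (pullback.snd (i ≫ f) g).homeomorph.injective.subsingleton
  have h2 : Subsingleton ↥(pullback (pullback.fst f g) i) := e.hom.homeomorph.injective.subsingleton
  rw [← Scheme.Pullback.range_fst]
  rintro _ ⟨a, rfl⟩ _ ⟨b, rfl⟩
  rw [Subsingleton.elim a b]

theorem irreducibleSpace_of_dense_points {X Y : Scheme.{u}} (f : X ⟶ Y) [Surjective f]
    (hf : IsOpenMap f) [IrreducibleSpace Y] (D : Set Y) (hD : Dense D)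
    (h : ∀ y ∈ D, (f ⁻¹' {y}).Subsingleton) : IrreducibleSpace X := by
  have hne : Nonempty X := by
    obtain ⟨x, -⟩ := f.surjective (Classical.arbitrary Y)
    exact ⟨x⟩
  refine @IrreducibleSpace.mk _ _ ⟨?_⟩ hne
  rintro u v hu hv ⟨a, -, ha⟩ ⟨b, -, hb⟩
  have h1 := hf u hu
  have h2 := hf v hv
  have h3 : (f '' u ∩ f '' v).Nonempty := by
    obtain ⟨c, -, hc⟩ := (PreirreducibleSpace.isPreirreducible_univ (X := Y)) _ _ h1 h2
      ⟨f a, trivial, a, ha, rfl⟩ ⟨f b, trivial, b, hb, rfl⟩
    exact ⟨c, hc⟩
  obtain ⟨y, ⟨⟨a', ha', rfl⟩, ⟨b', hb', hab⟩⟩, hy⟩ := hD.inter_open_nonempty _ (h1.inter h2) h3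
  have h4 : a' = b' := h _ hy rfl hab
  subst h4
  exact ⟨a', trivial, ha', hb'⟩

theorem geometricallyIrreducible_of_dense (k : Type u) [Field k] (X : Scheme.{u})
    [X.Over (Spec (CommRingCat.of k))] [IrreducibleSpace X]
    (hd : Dense {x : ↥X | Function.Surjective (Curv2.resMap k X x)}) :
    GeometricallyIrreducible (X ↘ (Spec (CommRingCat.of k))) := by
  rw [K418.GalComp.geometricallyIrreducible_iff]
  intro K _ _
  have hs : Surjective (Spec.map (CommRingCat.ofHom (algebraMap k K))) :=
    Groth.Agent.VarietyB.BaseExt1.surjective_of_subsingleton _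
  refine irreducibleSpace_of_dense_points (pullback.fst (X ↘ (Spec (CommRingCat.of k)))
    (Spec.map (CommRingCat.ofHom (algebraMap k K)))) (Scheme.Hom.isOpenMap _) _ hd ?_
  intro x hx
  have h1 : IsIso (X.fromSpecResidueField x ≫ (X ↘ (Spec (CommRingCat.of k)))) := by
    rw [← Groth.Agent.VarietyA.ResMap.specMap_resMap]
    have : IsIso (CommRingCat.ofHom (Curv2.resMap k X x)) := by
      rw [ConcreteCategory.isIso_iff_bijective]
      exact ⟨(Curv2.resMap k X x).injective, hx⟩
    infer_instance
  have h2 := subsingleton_preimage (X ↘ (Spec (CommRingCat.of k)))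
    (Spec.map (CommRingCat.ofHom (algebraMap k K))) (X.fromSpecResidueField x)
  rwa [Scheme.range_fromSpecResidueField] at h2

theorem irreducibleSpace_of_genericPoint_mem_range {X Y : Scheme.{u}} (j : X ⟶ Y) [IsPreimmersion j]
    [IrreducibleSpace Y] (h : genericPoint Y ∈ Set.range j) : IrreducibleSpace X := by
  obtain ⟨ξ, hξ⟩ := h
  rw [irreducibleSpace_def, Set.top_eq_univ]
  refine ⟨⟨ξ, trivial⟩, ?_⟩
  rintro u v hu hv ⟨a, -, ha⟩ ⟨b, -, hb⟩
  have key : ∀ (a : X) (u : Set X), IsOpen u → a ∈ u → ξ ∈ u := by
    intro a u hu ha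
    have : ξ ⤳ a := by
      rw [← j.isEmbedding.isInducing.specializes_iff, hξ]
      exact genericPoint_specializes _
    exact this.mem_open hu ha
  exact ⟨ξ, trivial, key a u hu ha, key b v hv hb⟩

theorem geometricallyIrreducible_iff_pullback_self (k : Type u) [Field k] (X : Scheme.{u})
    [X.Over (Spec (CommRingCat.of k))] :
    GeometricallyIrreducible (X ↘ (Spec (CommRingCat.of k))) ↔
      IrreducibleSpace ↥(pullback (X ↘ (Spec (CommRingCat.of k))) (X ↘ (Spec (CommRingCat.of k)))) := by
  set f := (X ↘ (Spec (CommRingCat.of k))) with hf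
  constructor
  · intro h
    have : IrreducibleSpace X :=
      GeometricallyIrreducible.irreducibleSpace_of_subsingleton (f := f)
    infer_instance
  · intro hP
    have hne : Nonempty X := ⟨pullback.fst f f (genericPoint _)⟩
    have hs : Surjective f := Groth.Agent.VarietyB.BaseExt1.surjective_of_subsingleton _
    have hX : IrreducibleSpace X :=
      Groth.Agent.VarietyB.BaseExt1.irreducibleSpace_of_surjective (pullback.fst f f)
    let _ := Curv2.resAlgebra k X (genericPoint X)
    have hη : X.fromSpecResidueField (genericPoint X) ≫ f =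
        Spec.map (CommRingCat.ofHom (algebraMap k (X.residueField (genericPoint X)))) :=
      (Groth.Agent.VarietyA.ResMap.specMap_resMap k X (genericPoint X)).symm
    have hgen : pullback.snd f f (genericPoint ↥(pullback f f)) = genericPoint X := by
      have h1 := (genericPoint_spec ↥(pullback f f)).image (pullback.snd f f).continuous
      rw [Set.image_univ, (pullback.snd f f).surjective.range_eq, closure_univ] at h1
      exact h1.eq (genericPoint_spec X)
    have h1 : IrreducibleSpace ↥(pullback (pullback.snd f f) (X.fromSpecResidueField (genericPoint X))) := by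
      refine irreducibleSpace_of_genericPoint_mem_range
        (pullback.fst (pullback.snd f f) (X.fromSpecResidueField (genericPoint X))) ?_
      rw [Scheme.Pullback.range_fst, Scheme.range_fromSpecResidueField]
      exact hgen
    have h2 : IrreducibleSpace ↥(pullback f (Spec.map (CommRingCat.ofHom (algebraMap k
        (X.residueField (genericPoint X)))))) := by
      rw [← hη]
      exact ((pullbackLeftPullbackSndIso f f (X.fromSpecResidueField (genericPoint X))).hom.homeomorph
        |>.irreducibleSpace_iff).1 h1
    refine Groth.Agent.VarietyA.GeomIrr.geometricallyIrreducible_of_sep k f hη ?_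
    intro a ha
    refine Groth.Agent.VarietyA.GeomIrr.mem_range_of_irreducibleSpace_bc k f hη a ha ?_
    exact Groth.Agent.VarietyB.BaseExt1.irreducibleSpace_of_surjective
      (Groth.Agent.VarietyA.GeomIrr.bcMap k (IntermediateField.adjoin k {a})
        (X.residueField (genericPoint X)) f)

end K418.Irred
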