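import Groth.Agent.VarietyA.StalkBC
import Groth.Agent.Variety.K418.PreimClosed

/-!
# Local rings of a fibre product `X ×_R Y` over an affine base: localizations of `𝒪_x ⊗ 𝒪_y`
-/

set_option autoImplicit false
universe u
open CategoryTheory CategoryTheory.Limits AlgebraicGeometry TensorProduct

namespace K418.ProdStalk

open Groth.Agent.VarietyA.StalkBC

variable {R : Type u} [CommRing R] {X Y : Scheme.{u}} (f : X ⟶ Spec (CommRingCat.of R))
  (g : Y ⟶ Spec (CommRingCat.of R))

noncomputable def stalkEquivOfEq {X : Scheme.{u}} {x y : X} (h : x = y) :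
    X.presheaf.stalk x ≃+* X.presheaf.stalk y := by
  subst h; exact RingEquiv.refl _

/-- `X ×_R Spec 𝒪_y ⟶ X ×_R Y`. -/
noncomputable def inc (y : Y) [Algebra R (Y.presheaf.stalk y)]
    (hy : algebraMap R (Y.presheaf.stalk y) = stalkRingHom g y) :
    pullback f (Spec.map (CommRingCat.ofHom (algebraMap R (Y.presheaf.stalk y)))) ⟶ pullback f g :=
  pullback.map _ _ _ _ (𝟙 X) (Y.fromSpecStalk y) (𝟙 _) (by simp)
    (by rw [Category.comp_id, fromSpecStalk_comp, hy])

section

variable (y : Y) [Algebra R (Y.presheaf.stalk y)]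
    (hy : algebraMap R (Y.presheaf.stalk y) = stalkRingHom g y)

theorem inc_fst : inc f g y hy ≫ pullback.fst f g = pullback.fst _ _ :=
  (pullback.lift_fst _ _ _).trans (Category.comp_id _)

theorem inc_snd : inc f g y hy ≫ pullback.snd f g = pullback.snd _ _ ≫ Y.fromSpecStalk y :=
  pullback.lift_snd _ _ _

theorem isPullback_inc :
    IsPullback (inc f g y hy) (pullback.snd _ _) (pullback.snd f g) (Y.fromSpecStalk y) := by
  refine IsPullback.of_right (h₁₂ := pullback.fst f g) (h₂₂ := g) (v₁₃ := f) ?_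
    (inc_snd f g y hy) (IsPullback.of_hasPullback f g)
  rw [inc_fst, fromSpecStalk_comp, ← hy]
  exact IsPullback.of_hasPullback _ _

instance : Mono (inc f g y hy) := (isPullback_inc f g y hy).mono_fst_of_mono

instance : Flat (inc f g y hy) :=
  MorphismProperty.of_isPullback (isPullback_inc f g y hy).flip inferInstance

end

/-- The local ring of `X ×_R Y` at a point over `x` and `y` is the localization of `𝒪_x ⊗ 𝒪_y` at a
prime lying over both maximal ideals. -/
theorem exists_stalk_equiv (x : X) (y : Y) [Algebra R (X.presheaf.stalk x)]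
    [Algebra R (Y.presheaf.stalk y)]
    (hx : algebraMap R (X.presheaf.stalk x) = stalkRingHom f x)
    (hy : algebraMap R (Y.presheaf.stalk y) = stalkRingHom g y)
    (z : ↥(pullback f g)) (hz1 : pullback.fst f g z = x) (hz2 : pullback.snd f g z = y) :
    ∃ (q : Ideal (X.presheaf.stalk x ⊗[R] Y.presheaf.stalk y)) (_ : q.IsPrime),
      q.comap (Algebra.TensorProduct.includeLeftRingHom (R := R)
        (A := X.presheaf.stalk x) (B := Y.presheaf.stalk y)) = IsLocalRing.maximalIdeal _ ∧
      Nonempty ((pullback f g).presheaf.stalk z ≃+* Localization.AtPrime q) := by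
  obtain ⟨w, hw1, hw2⟩ := Scheme.exists_preimage_of_isPullback (isPullback_inc f g y hy)
    z (IsLocalRing.closedPoint (Y.presheaf.stalk y)) (by rw [hz2, Scheme.fromSpecStalk_closedPoint])
  have hw3 : pullback.fst f (Spec.map (CommRingCat.ofHom (algebraMap R (Y.presheaf.stalk y)))) w = x := by
    rw [← inc_fst f g y hy, Scheme.Hom.comp_apply, hw1, hz1]
  obtain ⟨q, hq1, hq2⟩ := exists_specTensorTo_eq f (Y.presheaf.stalk y) x hx w hw3
  refine ⟨q.asIdeal, q.isPrime, hq2, ⟨?_⟩⟩
  have hiso : IsIso ((inc f g y hy).stalkMap w) := isIso_stalkMap_of_flat_of_mono _ _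
  exact (stalkEquivOfEq hw1.symm).trans ((asIso ((inc f g y hy).stalkMap w)).commRingCatIsoToRingEquiv.trans
    ((stalkEquivOfEq hq1.symm).trans (stalkEquiv f (Y.presheaf.stalk y) x hx q)))

end K418.ProdStalk
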