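import Mathlib.AlgebraicGeometry.Noetherian
import Mathlib.RingTheory.EssentialFiniteness
import Mathlib.RingTheory.Flat.FaithfullyFlat.Basic
import Groth.Agent.VarietyA.RegDescent
import Groth.Prelude.Def_CurvBase

/-!
# Local Noetherianity and base change to a finitely generated extension
-/

set_option autoImplicit false
universe u
open CategoryTheory CategoryTheory.Limits AlgebraicGeometry TensorProduct

namespace K418.NoethBC

theorem isNoetherianRing_tensor_iff (k : Type u) [Field k] (K : Type u) [Field K] [Algebra k K]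
    [Algebra.EssFiniteType k K] (A : Type u) [CommRing A] [Algebra k A] :
    IsNoetherianRing A ↔ IsNoetherianRing (A ⊗[k] K) := by
  constructor
  · intro h
    have : Algebra.EssFiniteType A (A ⊗[k] K) := inferInstance
    exact Algebra.EssFiniteType.isNoetherianRing A (A ⊗[k] K)
  · intro h
    exact Groth.Agent.VarietyA.RegDescent.isNoetherianRing_of_faithfullyFlat A (A ⊗[k] K)

/-- The part of `X_K` over a chart `Spec R → X`. -/
theorem exists_iso (k : Type u) [Field k] {X : Scheme.{u}}
    (f : X ⟶ Spec (CommRingCat.of k)) (K : Type u) [CommRing K] [Algebra k K]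
    (R : CommRingCat.{u}) (i : Spec R ⟶ X) :
    ∃ _ : Algebra k R, Spec.map (CommRingCat.ofHom (algebraMap k R)) = i ≫ f ∧
      Nonempty (pullback (pullback.fst f (Spec.map (CommRingCat.ofHom (algebraMap k K)))) i ≅
      Spec (CommRingCat.of (R ⊗[k] K))) := by
  obtain ⟨φ, hφ⟩ := Spec.map_surjective (i ≫ f)
  let _ : Algebra k R := φ.hom.toAlgebra
  refine ⟨inferInstance, hφ, ⟨?_⟩⟩
  let e := ((IsPullback.of_hasPullback (pullback.fst f (Spec.map (CommRingCat.ofHom (algebraMap k K))))
    i).flip.paste_vert (IsPullback.of_hasPullback f _)).isoPullback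
  exact e ≪≫ pullback.congrHom hφ.symm rfl ≪≫ pullbackSpecIso k R K

theorem isLocallyNoetherian_iff_of_iso {X Y : Scheme.{u}} (e : X ≅ Y) :
    IsLocallyNoetherian X ↔ IsLocallyNoetherian Y :=
  ⟨fun _ => isLocallyNoetherian_of_isOpenImmersion e.inv,
    fun _ => isLocallyNoetherian_of_isOpenImmersion e.hom⟩

theorem isLocallyNoetherian_iff (k : Type u) [Field k] {X : Scheme.{u}}
    (f : X ⟶ Spec (CommRingCat.of k)) (K : Type u) [Field K] [Algebra k K]
    [Algebra.EssFiniteType k K] :
    IsLocallyNoetherian X ↔
      IsLocallyNoetherian (pullback f (Spec.map (CommRingCat.ofHom (algebraMap k K)))) := by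
  rw [isLocallyNoetherian_iff_openCover X.affineCover,
    isLocallyNoetherian_iff_openCover (X.affineCover.pullback₁ (pullback.fst f
      (Spec.map (CommRingCat.ofHom (algebraMap k K)))))]
  refine forall_congr' fun i => ?_
  obtain ⟨_, -, ⟨e⟩⟩ := exists_iso k f K _ (X.affineCover.f i)
  refine Iff.trans ?_ (isLocallyNoetherian_iff_of_iso e).symm
  rw [isLocallyNoetherian_Spec]
  exact (isLocallyNoetherian_Spec (R := X.affineCover.X i |> fun _ => _)).trans
    (isNoetherianRing_tensor_iff k K _)

end K418.NoethBC
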