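import Groth.Agent.VarietyA.GeomRedBC
import Groth.Agent.VarietyA.RegDescent
import Groth.Agent.VarietyB.NormalBc
import Groth.Agent.Pi1B.PurInsepSpec
import Groth.Agent.S2672
import Groth.Agent.S0564
import Groth.Prelude.Def_Curv2

/-!
# Geometric regularity at a point
-/

set_option autoImplicit false
universe u
open CategoryTheory CategoryTheory.Limits AlgebraicGeometry TensorProduct

namespace K418.RegStalk

open Groth.Agent.VarietyA.StalkBC Groth.Agent.VarietyB.NormalBc

variable (k : Type u) [Field k] (X : Scheme.{u}) [X.Over (Spec (CommRingCat.of k))]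

attribute [local instance] Curv2.stalkAlgebra

/-- The local rings of `X_K` over `x` are the localizations of `𝒪_x ⊗ K` at the primes over the maximal
ideal. -/
theorem forall_stalk_iff (Q : ∀ (R : Type u) [CommRing R], Prop)
    (hQ : ∀ (R S : Type u) [CommRing R] [CommRing S], (R ≃+* S) → Q R → Q S)
    (x : X) (K : Type u) [Field K] [Algebra k K] :
    (∀ x' : Curv2.bc k X K, Curv2.bcFst k X K x' = x → Q ((Curv2.bc k X K).presheaf.stalk x')) ↔
      ∀ (q : Ideal (X.presheaf.stalk x ⊗[k] K)) [q.IsPrime],
        q.comap (Algebra.TensorProduct.includeLeftRingHom (R := k)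
          (A := X.presheaf.stalk x) (B := K)) = IsLocalRing.maximalIdeal _ →
        Q (Localization.AtPrime q) := by
  constructor
  · intro h q hq hqx
    have h1 := h (specTensorTo (X ↘ Spec (CommRingCat.of k)) K x rfl ⟨q, hq⟩)
      (fst_specTensorTo_apply _ _ _ rfl _ hqx)
    exact hQ _ _ (stalkEquiv (X ↘ Spec (CommRingCat.of k)) K x rfl ⟨q, hq⟩) h1
  · intro h x' hx'
    obtain ⟨q, rfl, hq⟩ := exists_specTensorTo_eq (X ↘ Spec (CommRingCat.of k)) K x rfl x' hx'
    have hqp : q.asIdeal.IsPrime := q.isPrime
    exact hQ _ _ (stalkEquiv (X ↘ Spec (CommRingCat.of k)) K x rfl q).symm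
      (h q.asIdeal hq)

/-- regular local ring at a prime contained in another one -/
theorem regular_of_le {S : Type u} [CommRing S] (q m : Ideal S) [q.IsPrime] [m.IsPrime] (h : q ≤ m)
    (hm : IsRegularLocalRing (Localization.AtPrime m)) : IsRegularLocalRing (Localization.AtPrime q) := by
  have hd : Disjoint (m.primeCompl : Set S) (q : Set S) := by
    rw [Set.disjoint_left]
    intro x hx hx'
    exact hx (h hx')
  let Q := q.map (algebraMap S (Localization.AtPrime m))
  have hQ : Q.IsPrime := IsLocalization.isPrime_of_isPrime_disjoint m.primeCompl _ q inferInstance hd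
  have hQc : Q.comap (algebraMap S (Localization.AtPrime m)) = q :=
    IsLocalization.under_map_of_isPrime_disjoint m.primeCompl _ ‹q.IsPrime› hd
  have h1 := Groth.Agent.S0564.result (Localization.AtPrime m) Q
  have h2 : IsLocalization.AtPrime (Localization.AtPrime Q)
      (Q.comap (algebraMap S (Localization.AtPrime m))) :=
    IsLocalization.isLocalization_isLocalization_atPrime_isLocalization m.primeCompl _ Q
  have h3 : IsLocalization.AtPrime (Localization.AtPrime Q) q := by
    convert h2
    exact hQc.symm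
  exact IsRegularLocalRing.of_ringEquiv (IsLocalization.algEquiv q.primeCompl (Localization.AtPrime Q)
    (Localization.AtPrime q)).toRingEquiv

theorem forall_prime_comm' (A : Type u) [CommRing A] [Algebra k A]
    (K : Type u) [Field K] [Algebra k K] :
    (∀ (q : Ideal (A ⊗[k] K)) [q.IsPrime], IsRegularLocalRing (Localization.AtPrime q)) ↔
      (∀ (q : Ideal (K ⊗[k] A)) [q.IsPrime], IsRegularLocalRing (Localization.AtPrime q)) := by
  constructor
  · intro h q _
    have := h (q.comap (Algebra.TensorProduct.comm k A K).toRingEquiv.toRingHom)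
    exact IsRegularLocalRing.of_ringEquiv (locEquiv (Algebra.TensorProduct.comm k A K).toRingEquiv q)
  · intro h q _
    have := h (q.comap (Algebra.TensorProduct.comm k K A).toRingEquiv.toRingHom)
    exact IsRegularLocalRing.of_ringEquiv (locEquiv (Algebra.TensorProduct.comm k K A).toRingEquiv q)

theorem forall_prime_of_algebraic (R : Type u) [CommRing R] [IsLocalRing R] [Algebra k R]
    (K : Type u) [Field K] [Algebra k K] [Algebra.IsAlgebraic k K]
    (h : ∀ (q : Ideal (R ⊗[k] K)) [q.IsPrime],
        q.comap (Algebra.TensorProduct.includeLeftRingHom (R := k)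
          (A := R) (B := K)) = IsLocalRing.maximalIdeal _ → IsRegularLocalRing (Localization.AtPrime q))
    (q : Ideal (R ⊗[k] K)) [q.IsPrime] : IsRegularLocalRing (Localization.AtPrime q) := by
  obtain ⟨m, hm, hqm⟩ := Ideal.exists_le_maximal q (Ideal.IsPrime.ne_top inferInstance)
  have hint : Algebra.IsIntegral R (R ⊗[k] K) := inferInstance
  have h1 : (m.comap (algebraMap R (R ⊗[k] K))).IsMaximal :=
    Ideal.isMaximal_comap_of_isIntegral_of_isMaximal m
  exact regular_of_le q m hqm (h m (IsLocalRing.eq_maximalIdeal h1))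

/-- (1) iff (2) iff (3) for geometric regularity at a point with Noetherian local ring. -/
theorem tfae (x : X) [IsNoetherianRing (X.presheaf.stalk x)] :
    (Curv2.IsGeomRegularAt k X x ↔
      ∀ (k' : Type u) [Field k'] [Algebra k k'] [FiniteDimensional k k'] [IsPurelyInseparable k k'] (x' : ↥(Curv2.bc k X k')),
        Curv2.bcFst k X k' x' = x → IsRegularLocalRing ↥((Curv2.bc k X k').presheaf.stalk x')) ∧
    ((∀ (k' : Type u) [Field k'] [Algebra k k'] [FiniteDimensional k k'] [IsPurelyInseparable k k'] (x' : ↥(Curv2.bc k X k')),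
        Curv2.bcFst k X k' x' = x → IsRegularLocalRing ↥((Curv2.bc k X k').presheaf.stalk x')) ↔
      CAlg.IsGeometricallyRegular k ↥(X.presheaf.stalk x)) := by
  have hQ : ∀ (R S : Type u) [CommRing R] [CommRing S], (R ≃+* S) →
      IsRegularLocalRing R → IsRegularLocalRing S :=
    fun R S _ _ e h => IsRegularLocalRing.of_ringEquiv e
  have h12 : Curv2.IsGeomRegularAt k X x →
      ∀ (k' : Type u) [Field k'] [Algebra k k'] [FiniteDimensional k k'] [IsPurelyInseparable k k'] (x' : ↥(Curv2.bc k X k')),
        Curv2.bcFst k X k' x' = x → IsRegularLocalRing ↥((Curv2.bc k X k').presheaf.stalk x') := by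
    intro h k' _ _ _ _
    exact h k' (IntermediateField.fg_top_iff.2 inferInstance)
  have h23 : (∀ (k' : Type u) [Field k'] [Algebra k k'] [FiniteDimensional k k'] [IsPurelyInseparable k k'] (x' : ↥(Curv2.bc k X k')),
        Curv2.bcFst k X k' x' = x → IsRegularLocalRing ↥((Curv2.bc k X k').presheaf.stalk x')) →
      CAlg.IsGeometricallyRegular k ↥(X.presheaf.stalk x) := by
    intro h
    rw [(Groth.Agent.S2672.result k (X.presheaf.stalk x)).1]
    intro k' _ _ _ _
    have hN' : IsNoetherianRing (X.presheaf.stalk x ⊗[k] k') :=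
      IsNoetherianRing.of_finite (X.presheaf.stalk x) _
    have hN : IsNoetherianRing (k' ⊗[k] X.presheaf.stalk x) :=
      isNoetherianRing_of_ringEquiv (X.presheaf.stalk x ⊗[k] k')
        (Algebra.TensorProduct.comm k (X.presheaf.stalk x) k').toRingEquiv
    rw [isRegularRing_iff]
    refine (forall_prime_comm' k (X.presheaf.stalk x) k').mp ?_
    exact forall_prime_of_algebraic k (X.presheaf.stalk x) k'
      ((forall_stalk_iff k X (fun R _ => IsRegularLocalRing R) hQ x k').1 (h k'))
  have h31 : CAlg.IsGeometricallyRegular k ↥(X.presheaf.stalk x) → Curv2.IsGeomRegularAt k X x := by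
    intro h K _ _ hK
    rw [IntermediateField.fg_top_iff] at hK
    have h1 := (Groth.Agent.S2672.result k (X.presheaf.stalk x)).2.1 h K hK
    refine (forall_stalk_iff k X (fun R _ => IsRegularLocalRing R) hQ x K).2 ?_
    intro q _ _
    refine (forall_prime_comm' k (X.presheaf.stalk x) K).mpr ?_ q
    exact h1.2
  exact ⟨⟨h12, fun h => h31 (h23 h)⟩, ⟨h23, fun h => h12 (h31 h)⟩⟩

theorem regular_stalk_of_flat {X Y : Scheme.{u}} (g : X ⟶ Y) [Flat g] (x : X)
    (h : IsRegularLocalRing (X.presheaf.stalk x)) : IsRegularLocalRing (Y.presheaf.stalk (g x)) := by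
  have h2 : (g.stalkMap x).hom.Flat := Flat.stalkMap g x
  algebraize [(g.stalkMap x).hom]
  have : IsLocalHom (algebraMap (Y.presheaf.stalk (g x)) (X.presheaf.stalk x)) :=
    inferInstanceAs (IsLocalHom (g.stalkMap x).hom)
  have : Module.FaithfullyFlat (Y.presheaf.stalk (g x)) (X.presheaf.stalk x) :=
    Module.FaithfullyFlat.of_flat_of_isLocalHom
  exact Groth.Agent.VarietyA.RegDescent.isRegularLocalRing_of_faithfullyFlat _ (X.presheaf.stalk x)

theorem noetherian_stalk_of_flat {X Y : Scheme.{u}} (g : X ⟶ Y) [Flat g] (x : X)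
    (h : IsNoetherianRing (X.presheaf.stalk x)) : IsNoetherianRing (Y.presheaf.stalk (g x)) := by
  have h2 : (g.stalkMap x).hom.Flat := Flat.stalkMap g x
  algebraize [(g.stalkMap x).hom]
  have : IsLocalHom (algebraMap (Y.presheaf.stalk (g x)) (X.presheaf.stalk x)) :=
    inferInstanceAs (IsLocalHom (g.stalkMap x).hom)
  have : Module.FaithfullyFlat (Y.presheaf.stalk (g x)) (X.presheaf.stalk x) :=
    Module.FaithfullyFlat.of_flat_of_isLocalHom
  exact Groth.Agent.VarietyA.RegDescent.isNoetherianRing_of_faithfullyFlat _ (X.presheaf.stalk x)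

/-- a compositum of a finite extension and an arbitrary extension -/
theorem exists_compositum (K k' : Type u) [Field K] [Algebra k K] [FiniteDimensional k K]
    [Field k'] [Algebra k k'] :
    ∃ (F : Type u) (_ : Field F) (_ : Algebra k F) (_ : Algebra k' F) (_ : Algebra K F)
      (_ : IsScalarTower k k' F) (_ : IsScalarTower k K F), FiniteDimensional k' F := by
  have : Nontrivial (k' ⊗[k] K) := inferInstance
  obtain ⟨m, hm⟩ := Ideal.exists_maximal (k' ⊗[k] K)
  let F := (k' ⊗[k] K) ⧸ m
  let _ : Field F := Ideal.Quotient.field m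
  let _ : Algebra K F := ((Ideal.Quotient.mkₐ k m).comp
    (Algebra.TensorProduct.includeRight : K →ₐ[k] k' ⊗[k] K)).toRingHom.toAlgebra
  have h1 : IsScalarTower k K F := IsScalarTower.of_algebraMap_eq fun x =>
    (((Ideal.Quotient.mkₐ k m).comp
    (Algebra.TensorProduct.includeRight : K →ₐ[k] k' ⊗[k] K)).commutes x).symm
  have h2 : Module.Finite k' F := Module.Finite.of_surjective
    (Ideal.Quotient.mkₐ k' m).toLinearMap (Ideal.Quotient.mkₐ_surjective k' m)
  exact ⟨F, inferInstance, inferInstance, inferInstance, inferInstance, inferInstance, h1, h2⟩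

theorem of_baseChange (k' : Type u) [Field k'] [Algebra k k']
    (x' : ↥(Curv2.bc k X k'))
    (h : @Curv2.IsGeomRegularAt k' _ (Curv2.bc k X k') ⟨Curv2.bcSnd k X k'⟩ x') :
    Curv2.IsGeomRegularAt k X (Curv2.bcFst k X k' x') := by
  -- the local ring at `x'` is regular
  have hreg : IsRegularLocalRing ((Curv2.bc k X k').presheaf.stalk x') := by
    have hs : Surjective (pullback.fst (Curv2.bcSnd k X k')
        (Spec.map (CommRingCat.ofHom (algebraMap k' k')))) := inferInstance
    obtain ⟨w, hw⟩ := hs.surj x'
    have h1 := h k' (IntermediateField.fg_top_iff.2 inferInstance) w hw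
    rw [← hw]
    exact regular_stalk_of_flat (pullback.fst (Curv2.bcSnd k X k')
        (Spec.map (CommRingCat.ofHom (algebraMap k' k')))) w h1
  have hN : IsNoetherianRing (X.presheaf.stalk (Curv2.bcFst k X k' x')) :=
    noetherian_stalk_of_flat (Curv2.bcFst k X k') x' inferInstance
  rw [(tfae k X (Curv2.bcFst k X k' x')).1]
  intro K _ _ _ _ y hy
  obtain ⟨F, _, _, _, _, _, _, hF⟩ := exists_compositum k K k'
  have hs : Surjective (pullback.fst (Curv2.bcSnd k X k')
        (Spec.map (CommRingCat.ofHom (algebraMap k' F)))) := inferInstance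
  obtain ⟨w, hw⟩ := hs.surj x'
  have h1 := h F (IntermediateField.fg_top_iff.2 inferInstance) w hw
  have hpb := Groth.Agent.VarietyA.GeomRedBC.isPullback_bc_bc k X k' F
  let g : pullback (Curv2.bcSnd k X k') (Spec.map (CommRingCat.ofHom (algebraMap k' F))) ⟶
      Curv2.bc k X K := pullback.lift
    (pullback.fst (Curv2.bcSnd k X k') (Spec.map (CommRingCat.ofHom (algebraMap k' F))) ≫
        Curv2.bcFst k X k')
    (pullback.snd (Curv2.bcSnd k X k') (Spec.map (CommRingCat.ofHom (algebraMap k' F))) ≫
      Spec.map (CommRingCat.ofHom (algebraMap K F)))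
    (by
      rw [hpb.w, IsScalarTower.algebraMap_eq k K F, CommRingCat.ofHom_comp, Spec.map_comp,
        Category.assoc])
  have hg1 : g ≫ Curv2.bcFst k X K = pullback.fst (Curv2.bcSnd k X k')
        (Spec.map (CommRingCat.ofHom (algebraMap k' F))) ≫ Curv2.bcFst k X k' :=
    pullback.lift_fst _ _ _
  have hg2 : g ≫ Curv2.bcSnd k X K = pullback.snd (Curv2.bcSnd k X k')
        (Spec.map (CommRingCat.ofHom (algebraMap k' F))) ≫
          Spec.map (CommRingCat.ofHom (algebraMap K F)) := pullback.lift_snd _ _ _
  have hgpb : IsPullback g (pullback.snd (Curv2.bcSnd k X k')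
      (Spec.map (CommRingCat.ofHom (algebraMap k' F)))) (Curv2.bcSnd k X K)
      (Spec.map (CommRingCat.ofHom (algebraMap K F))) := by
    apply IsPullback.of_right (h₁₂ := Curv2.bcFst k X K)
      (h₂₂ := Spec.map (CommRingCat.ofHom (algebraMap k K)))
      (v₁₃ := X ↘ Spec (CommRingCat.of k)) _ hg2
      (IsPullback.of_hasPullback (X ↘ Spec (CommRingCat.of k))
    (Spec.map (CommRingCat.ofHom (algebraMap k K))))
    rw [hg1, ← Spec.map_comp, ← CommRingCat.ofHom_comp, ← IsScalarTower.algebraMap_eq]
    exact hpb
  have hgf : Flat g := MorphismProperty.of_isPullback hgpb.flip inferInstance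
  have hinj : Function.Injective (Curv2.bcFst k X K) := by
    have h2 := Groth.Agent.Pi1B.PurInsepSpec.universallyInjective_specMap k K
    have h3 : UniversallyInjective (Curv2.bcFst k X K) :=
      UniversallyInjective.isStableUnderBaseChange.of_isPullback
        (IsPullback.of_hasPullback (X ↘ Spec (CommRingCat.of k))
          (Spec.map (CommRingCat.ofHom (algebraMap k K)))).flip h2
    exact (Curv2.bcFst k X K).injective
  have hgw : g w = y := by
    apply hinj
    rw [hy, ← hw, ← Scheme.Hom.comp_apply, hg1, Scheme.Hom.comp_apply]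
  rw [← hgw]
  exact regular_stalk_of_flat g w h1

end K418.RegStalk
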