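import Mathlib.AlgebraicGeometry.Morphisms.UniversallyOpen
import Mathlib.AlgebraicGeometry.PullbackCarrier
import Mathlib.AlgebraicGeometry.ResidueField

/-!
# Topology of products over a field
-/

set_option autoImplicit false
universe u
open CategoryTheory CategoryTheory.Limits AlgebraicGeometry

namespace K418.Top

variable (k : Type u) [Field k] {X Y : Scheme.{u}} (f : X ⟶ Spec (CommRingCat.of k))
  (g : Y ⟶ Spec (CommRingCat.of k))

/-- The fibre of `X ×_k Y ⟶ Y` over a point `b` maps to `X` by an open map. -/
theorem isOpenMap_fibre (b : Y) :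
    IsOpenMap (pullback.fst (pullback.snd f g) (Y.fromSpecResidueField b) ≫ pullback.fst f g) := by
  have h1 := IsPullback.of_hasPullback (pullback.snd f g) (Y.fromSpecResidueField b)
  have h2 := IsPullback.of_hasPullback f g
  have h3 := h1.flip.paste_vert h2.flip
  have : UniversallyOpen (Y.fromSpecResidueField b ≫ g) := inferInstance
  have h4 : UniversallyOpen (pullback.fst (pullback.snd f g) (Y.fromSpecResidueField b) ≫ pullback.fst f g) :=
    MorphismProperty.of_isPullback h3 this
  exact Scheme.Hom.isOpenMap _

theorem mem_closure_left (A : Set X) (B : Set Y) (z : ↥(pullback f g))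
    (hA : pullback.fst f g z ∈ closure A) (hB : pullback.snd f g z ∈ B) :
    z ∈ closure (pullback.fst f g ⁻¹' A ∩ pullback.snd f g ⁻¹' B) := by
  rw [mem_closure_iff]
  intro U hU hzU
  set b := pullback.snd f g z with hb
  have hpt : Y.fromSpecResidueField b (IsLocalRing.closedPoint _) = b :=
    Scheme.fromSpecResidueField_apply _ _
  obtain ⟨w, hw1, hw2⟩ := Scheme.Pullback.exists_preimage_pullback
    (f := pullback.snd f g) (g := Y.fromSpecResidueField b) z (IsLocalRing.closedPoint _) hpt.symm
  have ho := isOpenMap_fibre k f g b _ (hU.preimage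
    (pullback.fst (pullback.snd f g) (Y.fromSpecResidueField b)).continuous)
  obtain ⟨a, ⟨w', hw', rfl⟩, haA⟩ := (mem_closure_iff.1 hA) _ ho ⟨w, by
    change pullback.fst (pullback.snd f g) (Y.fromSpecResidueField b) w ∈ U
    rwa [hw1], by rw [Scheme.Hom.comp_apply, hw1]⟩
  refine ⟨pullback.fst (pullback.snd f g) (Y.fromSpecResidueField b) w', hw', ?_, ?_⟩
  · simpa using haA
  · have h1 : pullback.snd f g (pullback.fst (pullback.snd f g) (Y.fromSpecResidueField b) w') = b := by
      rw [← Scheme.Hom.comp_apply, pullback.condition, Scheme.Hom.comp_apply]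
      have h2 : pullback.snd (pullback.snd f g) (Y.fromSpecResidueField b) w' =
        IsLocalRing.closedPoint _ := Subsingleton.elim _ _
      rw [h2]
      exact hpt
    change pullback.snd f g (pullback.fst (pullback.snd f g) (Y.fromSpecResidueField b) w') ∈ B
    rw [h1]
    exact hB

theorem mem_closure_right (A : Set X) (B : Set Y) (z : ↥(pullback f g))
    (hA : pullback.fst f g z ∈ A) (hB : pullback.snd f g z ∈ closure B) :
    z ∈ closure (pullback.fst f g ⁻¹' A ∩ pullback.snd f g ⁻¹' B) := by
  have h1 := mem_closure_left k g f B A ((pullbackSymmetry f g).hom z)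
    (by rw [← Scheme.Hom.comp_apply, pullbackSymmetry_hom_comp_fst]; exact hB)
    (by rw [← Scheme.Hom.comp_apply, pullbackSymmetry_hom_comp_snd]; exact hA)
  have h2 : (pullbackSymmetry g f).hom ((pullbackSymmetry f g).hom z) = z := by
    rw [← Scheme.Hom.comp_apply]
    have : (pullbackSymmetry f g).hom ≫ (pullbackSymmetry g f).hom = 𝟙 _ := by
      apply pullback.hom_ext <;> simp
    rw [this]
    rfl
  rw [← h2]
  refine map_mem_closure (pullbackSymmetry g f).hom.continuous h1 ?_
  intro w hw
  refine ⟨?_, ?_⟩
  · have := hw.2
    simp only [Set.mem_preimage] at this ⊢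
    rwa [← Scheme.Hom.comp_apply, pullbackSymmetry_hom_comp_fst]
  · have := hw.1
    simp only [Set.mem_preimage] at this ⊢
    rwa [← Scheme.Hom.comp_apply, pullbackSymmetry_hom_comp_snd]

/-- The closure of a product set is the product of the closures. -/
theorem closure_eq (A : Set X) (B : Set Y) :
    closure (pullback.fst f g ⁻¹' A ∩ pullback.snd f g ⁻¹' B) =
      pullback.fst f g ⁻¹' closure A ∩ pullback.snd f g ⁻¹' closure B := by
  apply subset_antisymm
  · refine Set.subset_inter ?_ ?_
    · refine (closure_mono Set.inter_subset_left).trans ?_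
      exact (pullback.fst f g).continuous.closure_preimage_subset _
    · refine (closure_mono Set.inter_subset_right).trans ?_
      exact (pullback.snd f g).continuous.closure_preimage_subset _
  · rintro z ⟨h1, h2⟩
    have h3 := mem_closure_right k f g (closure A) B z h1 h2
    have h4 : pullback.fst f g ⁻¹' closure A ∩ pullback.snd f g ⁻¹' B ⊆
        closure (pullback.fst f g ⁻¹' A ∩ pullback.snd f g ⁻¹' B) :=
      fun w hw => mem_closure_left k f g A B w hw.1 hw.2
    have h5 := closure_mono h4 h3
    rwa [closure_closure] at h5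

end K418.Top
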