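import Mathlib.RingTheory.MvPowerSeries.Basic
import Mathlib.RingTheory.MvPolynomial.Homogeneous
import Mathlib.Algebra.Order.Antidiag.Finsupp
import Mathlib.RingTheory.Ideal.Prime

/-!
# Homogeneous components of power series and completions of homogeneous primes

For an ideal `J` of `k[x_1, …, x_N]` let `hat J` be the set of power series all of whose homogeneous
components lie in `J`. If `J` is prime then `hat J` is prime; if `J` is homogeneous then
`hat J ∩ k[x] = J`.
-/

set_option autoImplicit false

universe u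

namespace K418.ConeComp

variable {k : Type u} [Field k] {N : ℕ}

/-- The homogeneous component of degree `i` of a power series, as a polynomial. -/
noncomputable def hc (i : ℕ) (f : MvPowerSeries (Fin N) k) : MvPolynomial (Fin N) k :=
  ∑ d ∈ Finset.finsuppAntidiag Finset.univ i, MvPolynomial.monomial d (MvPowerSeries.coeff d f)

theorem coeff_hc (i : ℕ) (f : MvPowerSeries (Fin N) k) (d : Fin N →₀ ℕ) :
    MvPolynomial.coeff d (hc i f) = if d.degree = i then MvPowerSeries.coeff d f else 0 := by
  classical
  rw [hc, MvPolynomial.coeff_sum]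
  simp only [MvPolynomial.coeff_monomial]
  rw [Finset.sum_ite_eq']
  simp only [Finset.mem_finsuppAntidiag, Finset.subset_univ, and_true]
  rw [Finsupp.degree_eq_sum]

theorem hc_add (i : ℕ) (f g : MvPowerSeries (Fin N) k) : hc i (f + g) = hc i f + hc i g := by
  ext d
  simp only [coeff_hc, MvPolynomial.coeff_add, map_add]
  split_ifs <;> simp

theorem hc_zero (i : ℕ) : hc i (0 : MvPowerSeries (Fin N) k) = 0 := by
  ext d
  simp [coeff_hc]

theorem hc_mul (i : ℕ) (f g : MvPowerSeries (Fin N) k) :
    hc i (f * g) = ∑ p ∈ Finset.antidiagonal i, hc p.1 f * hc p.2 g := by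
  classical
  ext d
  rw [coeff_hc, MvPolynomial.coeff_sum]
  simp only [MvPolynomial.coeff_mul, MvPowerSeries.coeff_mul, coeff_hc]
  rw [Finset.sum_comm]
  by_cases hd : d.degree = i
  · rw [if_pos hd]
    refine Finset.sum_congr rfl fun q hq => ?_
    rw [Finset.mem_antidiagonal] at hq
    rw [Finset.sum_eq_single (q.1.degree, q.2.degree)]
    · simp
    · rintro ⟨a, b⟩ - hne
      by_cases ha : q.1.degree = a
      · by_cases hb : q.2.degree = b
        · exact absurd (by rw [← ha, ← hb]) hne
        · simp [hb]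
      · simp [ha]
    · intro h
      exact absurd (Finset.mem_antidiagonal.mpr (by
        rw [← hd, ← hq, map_add])) h
  · rw [if_neg hd]
    symm
    refine Finset.sum_eq_zero fun q hq => Finset.sum_eq_zero fun p hp => ?_
    rw [Finset.mem_antidiagonal] at hq hp
    by_cases ha : q.1.degree = p.1
    · by_cases hb : q.2.degree = p.2
      · exact absurd (by rw [← hp, ← ha, ← hb, ← hq, map_add]) hd
      · simp [hb]
    · simp [ha]

theorem hc_coe (i : ℕ) (p : MvPolynomial (Fin N) k) :
    hc i (p : MvPowerSeries (Fin N) k) = MvPolynomial.homogeneousComponent i p := by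
  ext d
  rw [coeff_hc, MvPolynomial.coeff_homogeneousComponent, MvPolynomial.coeff_coe]

theorem hc_one : hc 0 (1 : MvPowerSeries (Fin N) k) = 1 := by
  have h := hc_coe (N := N) (k := k) 0 1
  rw [MvPolynomial.coe_one] at h
  rw [h, MvPolynomial.homogeneousComponent_zero]
  simp

/-- The ideal of power series all of whose homogeneous components lie in `J`. -/
def hat (J : Ideal (MvPolynomial (Fin N) k)) : Ideal (MvPowerSeries (Fin N) k) where
  carrier := {f | ∀ i, hc i f ∈ J}
  add_mem' {f g} hf hg i := by rw [hc_add]; exact J.add_mem (hf i) (hg i)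
  zero_mem' i := by rw [hc_zero]; exact J.zero_mem
  smul_mem' f g hg i := by
    rw [smul_eq_mul, hc_mul]
    exact J.sum_mem fun p _ => J.mul_mem_left _ (hg _)

theorem mem_hat {J : Ideal (MvPolynomial (Fin N) k)} {f : MvPowerSeries (Fin N) k} :
    f ∈ hat J ↔ ∀ i, hc i f ∈ J := Iff.rfl

theorem hat_mono {J J' : Ideal (MvPolynomial (Fin N) k)} (h : J ≤ J') : hat J ≤ hat J' :=
  fun _ hf i => h (hf i)

theorem hat_ne_top {J : Ideal (MvPolynomial (Fin N) k)} (h : J ≠ ⊤) : hat J ≠ ⊤ := by
  intro h1
  apply h
  rw [Ideal.eq_top_iff_one, ← hc_one]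
  exact (mem_hat.mp (by rw [h1]; trivial)) 0

instance isPrime_hat (J : Ideal (MvPolynomial (Fin N) k)) [hJ : J.IsPrime] :
    (hat J).IsPrime := by
  refine ⟨hat_ne_top hJ.ne_top, ?_⟩
  intro f g hfg
  by_contra hcon
  push Not at hcon
  obtain ⟨hf, hg⟩ := hcon
  rw [mem_hat] at hf hg
  push Not at hf hg
  classical
  obtain ⟨hfi, hfi'⟩ := And.intro (Nat.find_spec hf) (fun m => Nat.find_min hf (m := m))
  obtain ⟨hgj, hgj'⟩ := And.intro (Nat.find_spec hg) (fun m => Nat.find_min hg (m := m))
  set i := Nat.find hf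
  set j := Nat.find hg
  have h1 := hfg (i + j)
  have hmem : (i, j) ∈ Finset.antidiagonal (i + j) := Finset.mem_antidiagonal.mpr rfl
  rw [hc_mul, ← Finset.add_sum_erase _ _ hmem] at h1
  have h2 : ∑ x ∈ (Finset.antidiagonal (i + j)).erase (i, j), hc x.1 f * hc x.2 g ∈ J := by
    refine J.sum_mem fun p hp => ?_
    obtain ⟨hne, hp⟩ := Finset.mem_erase.mp hp
    rw [Finset.mem_antidiagonal] at hp
    rcases lt_or_ge p.1 i with h | h
    · exact J.mul_mem_right _ (not_not.mp (hfi' _ h))
    · have h3 : p.2 < j := by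
        rcases eq_or_lt_of_le h with h4 | h4
        · exact absurd (Prod.ext h4.symm (by omega)) hne
        · omega
      exact J.mul_mem_left _ (not_not.mp (hgj' _ h3))
  have h3 : hc i f * hc j g ∈ J := (J.add_mem_iff_left h2).mp h1
  rcases hJ.mem_or_mem h3 with h | h
  · exact hfi h
  · exact hgj h

/-- For a homogeneous ideal `J`, a polynomial is in `hat J` if and only if it is in `J`. -/
theorem coe_mem_hat {J : Ideal (MvPolynomial (Fin N) k)}
    (hJ : ∀ p ∈ J, ∀ i, MvPolynomial.homogeneousComponent i p ∈ J)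
    (p : MvPolynomial (Fin N) k) : (p : MvPowerSeries (Fin N) k) ∈ hat J ↔ p ∈ J := by
  rw [mem_hat]
  constructor
  · intro h
    rw [← MvPolynomial.sum_homogeneousComponent p]
    exact J.sum_mem fun i _ => by rw [← hc_coe]; exact h i
  · intro h i
    rw [hc_coe]
    exact hJ p h i

end K418.ConeComp
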