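import Groth.Agent.Variety.K418.ConeComp
import Groth.Agent.Variety.K426.ProjCut
import Groth.Agent.CalgB.PowField
import Groth.Agent.Ega3B.IdemLift
import Mathlib.RingTheory.KrullDimension.NonZeroDivisors
import Mathlib.RingTheory.KrullDimension.Zero

/-!
# The completed cone over a closed irreducible subset of projective space

For a point `z` of `P^n_k` with homogeneous prime `idl z`, the ring `k[[x]] / hat (idl z)` is a complete
Noetherian local domain of Krull dimension at least `dim closure {z} + 1`.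
-/

set_option autoImplicit false

universe u

open CategoryTheory CategoryTheory.Limits AlgebraicGeometry Topology CohB1
open Groth.Agent Groth.Agent.VarietyB
open K426 K426.ProjCut K418.ConeComp

namespace K418.ConeRing

variable {k : Type u} [Field k] {n : ℕ}

theorem homogeneousComponent_mem_idl (z : ProjSpace n k) (p : MvPolynomial (Fin (n + 1)) k)
    (hp : p ∈ idl z) (i : ℕ) : MvPolynomial.homogeneousComponent i p ∈ idl z := by
  have h := (show ProjectiveSpectrum (polyGrading n k) from z).asHomogeneousIdeal.isHomogeneous i hp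
  have h1 := MvPolynomial.decomposition.decompose'_apply p i
  rw [← h1]
  exact h

theorem coe_mem_hat_idl (z : ProjSpace n k) (p : MvPolynomial (Fin (n + 1)) k) :
    (p : MvPowerSeries (Fin (n + 1)) k) ∈ hat (idl z) ↔ p ∈ idl z :=
  coe_mem_hat (homogeneousComponent_mem_idl z) p

theorem exists_X_notMem (z : ProjSpace n k) :
    ∃ i, (MvPolynomial.X i : MvPolynomial (Fin (n + 1)) k) ∉ idl z := by
  obtain ⟨i, hi⟩ := PerfB.ProjSpaceCover.exists_mem_basicOpen_X n k z
  exact ⟨i, hi⟩

theorem hat_lt_maximalIdeal (z : ProjSpace n k) :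
    hat (idl z) < IsLocalRing.maximalIdeal (MvPowerSeries (Fin (n + 1)) k) := by
  refine lt_of_le_of_ne (IsLocalRing.le_maximalIdeal (hat_ne_top (isPrime_idl z).ne_top)) ?_
  intro h
  obtain ⟨i, hi⟩ := exists_X_notMem z
  rw [← coe_mem_hat_idl, h, CalgB.PowField.maximalIdeal_eq, MvPolynomial.coe_X] at hi
  exact hi (Ideal.subset_span ⟨i, rfl⟩)

theorem hat_lt_hat {z w : ProjSpace n k} (h : z ⤳ w) (hne : z ≠ w) :
    hat (idl z) < hat (idl w) := by
  refine lt_of_le_of_ne (hat_mono ((specializes_iff z w).mp h)) ?_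
  intro he
  apply hne
  have h1 : w ⤳ z := by
    rw [specializes_iff]
    intro p hp
    rw [← coe_mem_hat_idl] at hp ⊢
    rwa [he]
  exact (h.antisymm h1).eq

theorem ringKrullDim_quotient_succ_le {A : Type*} [CommRing A] {I J : Ideal A} [hI : I.IsPrime]
    (h : I < J) : ringKrullDim (A ⧸ J) + 1 ≤ ringKrullDim (A ⧸ I) := by
  obtain ⟨r, hr, hr'⟩ := SetLike.exists_of_lt h
  refine ringKrullDim_succ_le_of_surjective (Ideal.Quotient.factor h.le)
    (Ideal.Quotient.factor_surjective h.le) (r := Ideal.Quotient.mk I r) ?_ ?_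
  · rw [mem_nonZeroDivisors_iff_ne_zero]
    rwa [Ne, Ideal.Quotient.eq_zero_iff_mem]
  · rw [Ideal.Quotient.factor_mk, Ideal.Quotient.eq_zero_iff_mem]
    exact hr

theorem trd_add_one_le : ∀ (r : ℕ) (z : ProjSpace n k), DimSch.trd k _ z = r →
    ((r + 1 : ℕ) : WithBot ℕ∞) ≤ ringKrullDim (MvPowerSeries (Fin (n + 1)) k ⧸ hat (idl z))
  | 0, z, _ => by
    have h1 := ringKrullDim_quotient_succ_le (hat_lt_maximalIdeal z)
    refine le_trans ?_ h1
    rw [ringKrullDim_eq_zero_of_isField ((Ideal.Quotient.maximal_ideal_iff_isField_quotient _).mp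
      (IsLocalRing.maximalIdeal.isMaximal (MvPowerSeries (Fin (n + 1)) k)))]
    simp
  | r + 1, z, hz => by
    obtain ⟨i, hi⟩ := exists_X_notMem z
    obtain ⟨w, hzw, hiw⟩ := exists_mem_of_pos z (by omega) (MvPolynomial.X i) 1 one_pos
      (MvPolynomial.isHomogeneous_X k i)
    obtain ⟨c, hc, hcw, hmax⟩ := exists_max (T := ProjSpace n k)
      (W := closure {z} ∩ {w | MvPolynomial.X i ∈ idl w})
      (isClosed_closure.inter (isClosed_setOf_mem (MvPolynomial.X i))) w
      ⟨specializes_iff_mem_closure.mp hzw, hiw⟩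
    have hzc : z ⤳ c := specializes_iff_mem_closure.mpr hc.1
    have h1 := trd_eq_add_one k hzc (MvPolynomial.X i) 1 (MvPolynomial.isHomogeneous_X k i) hc.2 hi
      (fun y hy hy' hy'' => hmax y ⟨specializes_iff_mem_closure.mp hy, hy''⟩ hy')
    have h2 := trd_add_one_le r c (by omega)
    have hne : z ≠ c := by
      rintro rfl
      exact hi hc.2
    refine le_trans ?_ (ringKrullDim_quotient_succ_le (hat_lt_hat hzc hne))
    refine le_trans ?_ (add_le_add_left h2 1)
    push_cast
    exact le_rfl

end K418.ConeRing
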