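import Groth.Agent.Variety.K418.LinConn
import Groth.Agent.Variety.K426.LinProj

/-!
# Irreducibility of hypersurface sections

`exists_generic`: let `V = closure {ξ}` be an irreducible closed subset of `P^n_k` of dimension at least
two, `T` a closed set whose points in `V` have codimension at least two, and `h` a form of positive degree
not vanishing identically on `V` nor on a component of `T`. If at each point of `V ∩ V_+(h)` outside `T`
there is only one component of `V ∩ V_+(h)`, then `V ∩ V_+(h)` is irreducible.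
-/

set_option autoImplicit false

universe u

open CategoryTheory CategoryTheory.Limits AlgebraicGeometry Topology CohB1
open Groth.Agent Groth.Agent.VarietyB
open K426 K426.ProjCut

namespace K418.HypIrred

variable {k : Type u} [Field k] {n : ℕ}

/-- The generic points of the components of a closed subset are finite in number. -/
theorem finite_max {W : Set (ProjSpace n k)} (hW : IsClosed W) :
    {c : ProjSpace n k | c ∈ W ∧ ∀ w ∈ W, w ⤳ c → w = c}.Finite := by
  have := LinProj.noetherianSpace k n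
  have hfin : (irreducibleComponents W).Finite :=
    TopologicalSpace.NoetherianSpace.finite_irreducibleComponents
  refine Set.Finite.of_finite_image (f := fun c => (Subtype.val ⁻¹' closure {c} : Set W))
    (hfin.subset ?_) ?_
  · rintro _ ⟨c, ⟨hc, hmax⟩, rfl⟩
    exact Cut.exists_mem_irreducibleComponents c hc hmax hW
  · rintro c ⟨hc, hmax⟩ c' ⟨hc', hmax'⟩ heq
    have h1 : (⟨c', hc'⟩ : W) ∈ (Subtype.val ⁻¹' closure {c} : Set W) := by
      change (⟨c', hc'⟩ : W) ∈ (fun c => (Subtype.val ⁻¹' closure {c} : Set W)) c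
      rw [heq]
      exact subset_closure rfl
    exact hmax' c hc (specializes_iff_mem_closure.mpr h1)

variable [Infinite k]

theorem exists_generic (ξ : ProjSpace n k) (hd : 2 ≤ DimSch.trd k _ ξ)
    (h : MvPolynomial (Fin (n + 1)) k) (e : ℕ) (he : 0 < e) (hh : h.IsHomogeneous e)
    (hξ : h ∉ idl ξ) (T : Set (ProjSpace n k)) (hT : IsClosed T)
    (hTd : ∀ z ∈ T, DimSch.trd k _ z + 2 ≤ DimSch.trd k _ ξ)
    (hTh : ∀ τ ∈ T, (∀ w ∈ T, w ⤳ τ → w = τ) → h ∉ idl τ)
    (hloc : ∀ w, ξ ⤳ w → w ∉ T → h ∈ idl w → ∀ c c', ξ ⤳ c → ξ ⤳ c' → h ∈ idl c → h ∈ idl c' →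
      (∀ z, ξ ⤳ z → h ∈ idl z → z ⤳ c → z = c) → (∀ z, ξ ⤳ z → h ∈ idl z → z ⤳ c' → z = c') →
      c ⤳ w → c' ⤳ w → c = c') :
    ∃ c : ProjSpace n k, {w | ξ ⤳ w ∧ h ∈ idl w} = closure {c} := by
  have hnoeth : TopologicalSpace.NoetherianSpace (ProjSpace n k) := LinProj.noetherianSpace k n
  set Y : Set (ProjSpace n k) := {w | ξ ⤳ w ∧ h ∈ idl w} with hY
  have hYc : IsClosed Y := by
    have h1 : Y = closure {ξ} ∩ {w | h ∈ idl w} := by
      ext w
      exact and_congr specializes_iff_mem_closure Iff.rfl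
    rw [h1]
    exact isClosed_closure.inter (isClosed_setOf_mem h)
  obtain ⟨z, hz⟩ := exists_mem_of_pos ξ (by omega) h e he hh
  obtain ⟨c, hcY, hcz, hcmax⟩ := exists_max (T := ProjSpace n k) hYc z hz
  refine ⟨c, Set.Subset.antisymm ?_ ?_⟩
  swap
  · exact hYc.closure_subset_iff.mpr (Set.singleton_subset_iff.mpr hcY)
  intro y hy
  obtain ⟨c', hc'Y, hc'y, hc'max⟩ := exists_max (T := ProjSpace n k) hYc y hy
  by_cases hcc : c = c'
  · rw [hcc]
    exact specializes_iff_mem_closure.mp hc'y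
  exfalso
  -- dimensions of the two components
  have hdc : ∀ c ∈ Y, (∀ w ∈ Y, w ⤳ c → w = c) → DimSch.trd k _ ξ = DimSch.trd k _ c + 1 := by
    intro c hc hmax
    exact trd_eq_add_one k hc.1 h e hh hc.2 hξ (fun z hz hz' hz'' => hmax z ⟨hz, hz''⟩ hz')
  -- the maximal points different from `c`
  let s : Set (ProjSpace n k) := {c'' | (c'' ∈ Y ∧ ∀ w ∈ Y, w ⤳ c'' → w = c'') ∧ c'' ≠ c}
  have hs : s.Finite := (finite_max hYc).subset fun c'' h => h.1
  let P : Set (ProjSpace n k) := closure {c}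
  let Q : Set (ProjSpace n k) := ⋃ c'' ∈ s, closure {c''}
  have hP : IsClosed P := isClosed_closure
  have hQ : IsClosed Q := hs.isClosed_biUnion fun _ _ => isClosed_closure
  have hPQ : ∀ z ∈ P ∩ Q, DimSch.trd k _ z < DimSch.trd k _ ξ - 2 := by
    rintro w ⟨hw, hw'⟩
    obtain ⟨c'', hc'', hw''⟩ := Set.mem_iUnion₂.mp hw'
    have hwc : c ⤳ w := specializes_iff_mem_closure.mpr hw
    have hwc' : c'' ⤳ w := specializes_iff_mem_closure.mpr hw''
    have hξw : ξ ⤳ w := hcY.1.trans hwc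
    have hhw : h ∈ idl w := (specializes_iff _ _).mp hwc hcY.2
    have hwT : w ∈ T := by
      by_contra hwT
      exact hc''.2 (hloc w hξw hwT hhw c'' c hc''.1.1.1 hcY.1 hc''.1.1.2 hcY.2
        (fun z h1 h2 h3 => hc''.1.2 z ⟨h1, h2⟩ h3) (fun z h1 h2 h3 => hcmax z ⟨h1, h2⟩ h3) hwc' hwc)
    obtain ⟨τ, hτ, hτw, hτmax⟩ := exists_max (T := ProjSpace n k) hT w hwT
    have h1 := hTh τ hτ hτmax
    have h2 : τ ≠ w := by
      rintro rfl
      exact h1 hhw
    have h3 := Cut.trd_lt k hτw h2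
    have h4 := hTd τ hτ
    omega
  obtain ⟨l, hl, hl'⟩ := LinProj.exists_linear_forms (k := k) (n := n) (DimSch.trd k _ ξ - 2) (P ∩ Q)
    (hP.inter hQ) hPQ
  let f : Fin (DimSch.trd k _ ξ - 2 + 1) → MvPolynomial (Fin (n + 1)) k := Fin.cons h l
  let dg : Fin (DimSch.trd k _ ξ - 2 + 1) → ℕ := Fin.cons e fun _ => 1
  have hconn := LinConn.isConnected_inter ξ (t := DimSch.trd k _ ξ - 2 + 1) (by omega) f dg
    (by
      intro i
      induction i using Fin.cases with
      | zero => exact he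
      | succ i => exact one_pos)
    (by
      intro i
      induction i using Fin.cases with
      | zero => exact hh
      | succ i => exact hl i)
  set C : Set (ProjSpace n k) := {w | ξ ⤳ w ∧ ∀ i, f i ∈ idl w} with hC
  have hCY : C ⊆ Y := fun w hw => ⟨hw.1, hw.2 0⟩
  have hYPQ : Y ⊆ P ∪ Q := by
    intro w hw
    obtain ⟨c'', hc'', hw'', hmax⟩ := exists_max (T := ProjSpace n k) hYc w hw
    by_cases he : c'' = c
    · left
      change w ∈ closure {c}
      rw [← he]
      exact specializes_iff_mem_closure.mp hw''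
    · right
      exact Set.mem_iUnion₂.mpr ⟨c'', ⟨⟨hc'', hmax⟩, he⟩, specializes_iff_mem_closure.mp hw''⟩
  have hne : ∀ c ∈ Y, (∀ w ∈ Y, w ⤳ c → w = c) → (C ∩ closure {c}).Nonempty := by
    intro c hc hmax
    have h1 := hdc c hc hmax
    obtain ⟨z, hz, hz'⟩ := exists_common_zero c (r := DimSch.trd k _ ξ - 2) (by omega) l (fun _ => 1)
      (fun _ => one_pos) hl
    refine ⟨z, ⟨hc.1.trans hz, fun i => ?_⟩, specializes_iff_mem_closure.mp hz⟩
    induction i using Fin.cases with
    | zero => exact (specializes_iff _ _).mp hz hc.2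
    | succ i => exact hz' i
  have h1 := isPreconnected_closed_iff.mp hconn.isPreconnected P Q hP hQ (hCY.trans hYPQ)
    (hne c hcY hcmax) (by
      obtain ⟨z, hz, hz'⟩ := hne c' hc'Y hc'max
      exact ⟨z, hz, Set.mem_iUnion₂.mpr ⟨c', ⟨⟨hc'Y, hc'max⟩, fun h => hcc h.symm⟩, hz'⟩⟩)
  obtain ⟨z, hz, hz'⟩ := h1
  obtain ⟨i, hi⟩ := hl' z hz'
  exact hi (hz.2 i.succ)

end K418.HypIrred
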