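import Groth.Agent.Variety.K418.HypSmooth
import Groth.Agent.Variety.K418.HypIrred
import Groth.Agent.SmVar.K658.ProjSec
import Groth.Agent.Ega2.Normal
import Groth.Agent.VarietyA.SmoothReg

/-!
# General hyperplanes and normal projective varieties
-/

set_option autoImplicit false

universe u

open CategoryTheory CategoryTheory.Limits AlgebraicGeometry Topology CohB1
open Groth.Agent Groth.Agent.VarietyB
open K426 K426.ProjCut

namespace K418.HypSec

section Normal

variable {X : Scheme.{u}} [IsIntegral X] [IsLocallyNoetherian X]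

theorem isRegularLocalRing_iff {X : Scheme.{u}} {U : X.Opens} (hU : IsAffineOpen U) (x : X) (hx : x ∈ U) :
    IsRegularLocalRing (Localization.AtPrime (hU.primeIdealOf ⟨x, hx⟩).asIdeal) ↔
      IsRegularLocalRing (X.presheaf.stalk x) := by
  let _ : Algebra Γ(X, U) (X.presheaf.stalk x) := TopCat.Presheaf.algebra_section_stalk X.presheaf ⟨x, hx⟩
  have hloc : IsLocalization.AtPrime (X.presheaf.stalk x) (hU.primeIdealOf ⟨x, hx⟩).asIdeal :=
    hU.isLocalization_stalk ⟨x, hx⟩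
  let e := (IsLocalization.algEquiv (hU.primeIdealOf ⟨x, hx⟩).asIdeal.primeCompl
    (X.presheaf.stalk x) (Localization.AtPrime (hU.primeIdealOf ⟨x, hx⟩).asIdeal)).toRingEquiv
  exact ⟨fun h => IsRegularLocalRing.of_ringEquiv e.symm, fun h => IsRegularLocalRing.of_ringEquiv e⟩

/-- A singular point of a normal integral scheme has codimension at least two. -/
theorem exists_between (hX : Pi1.IsNormalScheme X) (x : X)
    (hx : ¬ IsRegularLocalRing (X.presheaf.stalk x)) :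
    ∃ y : X, y ⤳ x ∧ y ≠ x ∧ y ≠ genericPoint X := by
  obtain ⟨U, hU, hxU, -⟩ := exists_isAffineOpen_mem_and_subset (X := X) (x := x) (U := ⊤) trivial
  have hne : Nonempty U := ⟨⟨x, hxU⟩⟩
  have hN : IsNoetherianRing Γ(X, U) := IsLocallyNoetherian.component_noetherian ⟨U, hU⟩
  have hIC : IsIntegrallyClosed Γ(X, U) := Ega2.Normal.isIntegrallyClosed_of_isAffineOpen hX hU hne
  rw [← isRegularLocalRing_iff hU x hxU] at hx
  have h1 : ¬ (hU.primeIdealOf ⟨x, hxU⟩).asIdeal.height ≤ 1 := fun h =>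
    hx (Lipman.SingFin.isRegular_of_height_le_one _ h)
  have h2 : ∃ q : Ideal Γ(X, U), q.IsPrime ∧ q < (hU.primeIdealOf ⟨x, hxU⟩).asIdeal ∧ q ≠ ⊥ := by
    by_contra hcon
    push Not at hcon
    apply h1
    have h3 := (Ideal.height_le_iff (p := (hU.primeIdealOf ⟨x, hxU⟩).asIdeal) (n := 1)).mpr (by
      intro q hq hlt
      rw [hcon q hq hlt, Ideal.height_bot]
      norm_num)
    exact_mod_cast h3
  obtain ⟨q, hq, hlt, hq0⟩ := h2
  obtain ⟨y, hy, hyq⟩ := Cut.exists_point hU ⟨q, hq⟩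
  have hyq' : (hU.primeIdealOf ⟨y, hy⟩).asIdeal = q := by rw [hyq]
  refine ⟨y, ?_, ?_, ?_⟩
  · refine (CovBy.primeIdealOf_le_iff hU ⟨y, hy⟩ ⟨x, hxU⟩).mp ?_
    change (hU.primeIdealOf ⟨y, hy⟩).asIdeal ≤ _
    rw [hyq']
    exact hlt.le
  · rintro rfl
    exact hlt.ne hyq'.symm
  · intro h
    apply hq0
    obtain ⟨z, hz, hzq⟩ := Cut.exists_point hU ⟨⊥, Ideal.isPrime_bot⟩
    have h4 : y ⤳ z := by
      rw [h]
      exact genericPoint_specializes z
    have h5 := (CovBy.primeIdealOf_le_iff hU ⟨y, hy⟩ ⟨z, hz⟩).mpr h4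
    rw [hzq, hyq] at h5
    exact le_bot_iff.mp h5

end Normal

variable {k : Type u} [Field k] {n : ℕ}

/-- General hyperplanes avoid a given point. -/
theorem exists_poly_notMem (z : ProjSpace n k) :
    ∃ G : MvPolynomial (Fin (n + 1)) k, G ≠ 0 ∧ ∀ h : CohB1.polyGrading n k 1,
      MvPolynomial.eval (fun i => MvPolynomial.coeff (Finsupp.single i 1)
        (h : MvPolynomial (Fin (n + 1)) k)) G ≠ 0 → (h : MvPolynomial (Fin (n + 1)) k) ∉ idl z := by
  obtain ⟨i, hi⟩ := ConeRing.exists_X_notMem z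
  have h1 : (Ideal.Quotient.mkₐ k (idl z)) (MvPolynomial.X i) ≠ 0 := by
    rw [Ideal.Quotient.mkₐ_eq_mk, Ne, Ideal.Quotient.eq_zero_iff_mem]
    exact hi
  obtain ⟨φ, hφ⟩ : ∃ φ : Module.Dual k (MvPolynomial (Fin (n + 1)) k ⧸ idl z),
      φ ((Ideal.Quotient.mkₐ k (idl z)) (MvPolynomial.X i)) ≠ 0 := by
    by_contra hcon
    push Not at hcon
    exact h1 ((Module.forall_dual_apply_eq_zero_iff k _).mp hcon)
  let b : Fin (n + 1) → k := fun j => φ ((Ideal.Quotient.mkₐ k (idl z)) (MvPolynomial.X j))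
  refine ⟨(K658.ProjSec.lin b : MvPolynomial (Fin (n + 1)) k), ?_, ?_⟩
  · intro h0
    have h2 := K658.ProjSec.coeff_lin b i
    rw [h0, MvPolynomial.coeff_zero] at h2
    exact hφ h2.symm
  · intro h hh hmem
    apply hh
    change MvPolynomial.eval _ (∑ i, MvPolynomial.C (b i) * MvPolynomial.X i) = 0
    rw [map_sum]
    simp only [map_mul, MvPolynomial.eval_C, MvPolynomial.eval_X]
    have h3 : (Ideal.Quotient.mkₐ k (idl z)) (h : MvPolynomial (Fin (n + 1)) k) = 0 := by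
      rw [Ideal.Quotient.mkₐ_eq_mk, Ideal.Quotient.eq_zero_iff_mem]
      exact hmem
    have h4 := congrArg φ h3
    rw [map_zero, K658.ProjSec.linear_eq_sum h, map_sum, map_sum] at h4
    rw [← h4]
    refine Finset.sum_congr rfl fun j _ => ?_
    rw [map_mul, MvPolynomial.C_eq_algebraMap, AlgHom.commutes, ← Algebra.smul_def, map_smul, smul_eq_mul,
      mul_comm]

variable {X : Scheme.{u}} (ι : X ⟶ Proj (CohB1.polyGrading n k))

/-- General hyperplanes are transversal at the regular points. -/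
theorem exists_good_reg [PerfectField k] [IsClosedImmersion ι] :
    ∃ G : MvPolynomial (Fin (n + 1)) k, G ≠ 0 ∧ ∀ h : CohB1.polyGrading n k 1,
      MvPolynomial.eval (fun i => MvPolynomial.coeff (Finsupp.single i 1)
        (h : MvPolynomial (Fin (n + 1)) k)) G ≠ 0 →
        ∀ j, HypSmooth.TransvReg (K658.ProjSec.θ ι j h) := by
  classical
  have key : ∀ j, ∃ G : MvPolynomial (Fin (n + 1)) k, G ≠ 0 ∧ ∀ (a : Fin (n + 1) → k), MvPolynomial.eval a G ≠ 0 →
      letI := K658.ProjSec.alg ι j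
      HypSmooth.TransvReg (∑ i, algebraMap k Γ(X, K658.ProjSec.W ι j) (a i) *
        K658.ProjSec.θ ι j (MvPolynomial.X i)) := by
    intro j
    let _ := K658.ProjSec.alg ι j
    refine HypSmooth.exists_polynomial n (fun i => K658.ProjSec.θ ι j (MvPolynomial.X i)) j
      (K658.ProjSec.θ_self ι j) fun y => ?_
    obtain ⟨P, hP⟩ := K658.ProjSec.θ_surjective ι j y
    exact ⟨P, (K658.ProjSec.aeval_eq ι j P).trans hP⟩
  choose G hG0 hG using key
  refine ⟨∏ j, G j, Finset.prod_ne_zero_iff.2 fun j _ => hG0 j, fun h hh j => ?_⟩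
  have h1 : MvPolynomial.eval (fun i => MvPolynomial.coeff (Finsupp.single i 1)
      (h : MvPolynomial (Fin (n + 1)) k)) (G j) ≠ 0 := by
    intro h0
    apply hh
    rw [map_prod]
    exact Finset.prod_eq_zero (Finset.mem_univ j) h0
  have h2 := hG j _ h1
  rw [K658.ProjSec.θ_sum ι j h]
  exact h2

/-- Through a regular point of `X` on a transversal hyperplane there is one component of the section. -/
theorem eq_of_transv [IsClosedImmersion ι] (h : CohB1.polyGrading n k 1)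
    (ht : ∀ j, HypSmooth.TransvReg (K658.ProjSec.θ ι j h)) (x : X)
    (hreg : IsRegularLocalRing (X.presheaf.stalk x))
    (hx : (h : MvPolynomial (Fin (n + 1)) k) ∈ idl (ι x)) :
    ∃ z : X, z ⤳ x ∧ (h : MvPolynomial (Fin (n + 1)) k) ∈ idl (ι z) ∧
      ∀ y : X, y ⤳ x → (h : MvPolynomial (Fin (n + 1)) k) ∈ idl (ι y) → z ⤳ y := by
  obtain ⟨j, hj⟩ := K658.ProjSec.exists_mem_W ι x
  have hU := K658.ProjSec.isAffineOpen_W ι j
  have hmem : ∀ (y : X) (hy : y ∈ K658.ProjSec.W ι j),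
      K658.ProjSec.θ ι j h ∈ (hU.primeIdealOf ⟨y, hy⟩).asIdeal ↔
        (h : MvPolynomial (Fin (n + 1)) k) ∈ idl (ι y) := by
    intro y hy
    rw [Cut.mem_primeIdealOf_iff hU y hy, K658.ProjSec.mem_basicOpen_θ ι j y hy h, not_not]
    rfl
  obtain ⟨q, hq, hqp, htq, hqmin⟩ := (ht j).eq_of_le (hU.primeIdealOf ⟨x, hj⟩).asIdeal ((hmem x hj).mpr hx)
    ((isRegularLocalRing_iff hU x hj).mpr hreg)
  obtain ⟨z, hz, hzq⟩ := Cut.exists_point hU ⟨q, hq⟩
  have hzq' : (hU.primeIdealOf ⟨z, hz⟩).asIdeal = q := by rw [hzq]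
  refine ⟨z, ?_, ?_, ?_⟩
  · refine (CovBy.primeIdealOf_le_iff hU ⟨z, hz⟩ ⟨x, hj⟩).mp ?_
    change (hU.primeIdealOf ⟨z, hz⟩).asIdeal ≤ _
    rw [hzq']
    exact hqp
  · rw [← hmem z hz, hzq']
    exact htq
  · intro y hyx hy
    have hyU : y ∈ K658.ProjSec.W ι j := hyx.mem_open (K658.ProjSec.W ι j).2 hj
    refine (CovBy.primeIdealOf_le_iff hU ⟨z, hz⟩ ⟨y, hyU⟩).mp ?_
    change (hU.primeIdealOf ⟨z, hz⟩).asIdeal ≤ _
    rw [hzq']
    exact hqmin _ inferInstance ((CovBy.primeIdealOf_le_iff hU ⟨y, hyU⟩ ⟨x, hj⟩).mpr hyx) ((hmem y hyU).mpr hy)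

end K418.HypSec
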