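import Groth.Agent.SmVar.K658.AffBertini
import Groth.Agent.CalgC.RegSmooth
import Groth.Agent.Etalg.NormalDvr
import Groth.Agent.Lipman.SingFin
import Groth.Agent.CalgA.RegBasic

/-!
# Transversality of general hyperplanes at the regular points of an affine variety

* `exists_polynomial`: `A` an algebra over a perfect field generated by `x_0, …, x_n` with `x_j = 1`; for
  coefficients `a` outside a hypersurface, `∑ a_i x_i` is not in the square of the maximal ideal of any
  regular local ring `A_p` with `∑ a_i x_i ∈ p`.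
* `isReduced_quotient`: if `A` is a normal Noetherian domain and `t ≠ 0` has this property then `A/(t)` is
  reduced.
-/

set_option autoImplicit false
universe u

open IsLocalRing TensorProduct Algebra KaehlerDifferential

namespace K418.HypSmooth

variable {k : Type u} [Field k] {A : Type u} [CommRing A] [Algebra k A]

/-- `t` is transversal at all regular points at which it vanishes. -/
def TransvReg {A : Type u} [CommRing A] (t : A) : Prop :=
  ∀ (p : Ideal A) [p.IsPrime], t ∈ p → IsRegularLocalRing (Localization.AtPrime p) →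
    algebraMap A (Localization.AtPrime p) t ∉ maximalIdeal (Localization.AtPrime p) ^ 2

theorem exists_polynomial_aux (n : ℕ) (x : Fin n → A)
    (hx : Function.Surjective (MvPolynomial.aeval x : MvPolynomial (Fin n) k →ₐ[k] A)) :
    ∃ G : MvPolynomial (Fin (n + 1)) k, G ≠ 0 ∧ ∀ (a : Fin (n + 1) → k), MvPolynomial.eval a G ≠ 0 →
      ∀ (p : Ideal A) [p.IsPrime], Algebra.IsSmoothAt k p →
      (algebraMap k A (a 0) + ∑ i : Fin n, algebraMap k A (a i.succ) * x i) ∈ p →
      (1 : p.ResidueField) ⊗ₜ[A] D k A (algebraMap k A (a 0) + ∑ i : Fin n, algebraMap k A (a i.succ) * x i) ≠ 0 := by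
  classical
  have hft : Algebra.FiniteType k A :=
    Algebra.FiniteType.iff_quotient_mvPolynomial''.2 ⟨n, MvPolynomial.aeval x, hx⟩
  have hfp : Algebra.FinitePresentation k A := Algebra.FinitePresentation.of_finiteType.1 inferInstance
  have hNA : IsNoetherianRing A := Algebra.FiniteType.isNoetherianRing k A
  let 𝒢 : Set A := {g | ∃ r, (algebraMap k (Localization.Away g)).IsStandardSmoothOfRelativeDimension r}
  obtain ⟨T, hT𝒢, hTs⟩ : ∃ T : Finset A, (T : Set A) ⊆ 𝒢 ∧ Ideal.span 𝒢 = Ideal.span (T : Set A) := by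
    exact Submodule.fg_span_iff_fg_span_finset_subset 𝒢 |>.1 (IsNoetherian.noetherian _)
  have key : ∀ g ∈ 𝒢, ∃ G : MvPolynomial (Fin (n + 1)) k, G ≠ 0 ∧ ∀ (p : Ideal A) [p.IsPrime]
      (a : Fin (n + 1) → k), g ∉ p →
      (algebraMap k A (a 0) + ∑ i : Fin n, algebraMap k A (a i.succ) * x i) ∈ p →
      (1 : p.ResidueField) ⊗ₜ[A] D k A (algebraMap k A (a 0) + ∑ i : Fin n, algebraMap k A (a i.succ) * x i) = 0 →
      MvPolynomial.eval a G = 0 := by
    rintro g ⟨r, hr⟩
    exact Groth.Agent.S4228.exists_chart n r x hx g hr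
  choose! G hG0 hG using key
  refine ⟨∏ g ∈ T, G g, Finset.prod_ne_zero_iff.2 fun g hg => hG0 g (hT𝒢 hg), fun a ha p hp hsm hap hd => ?_⟩
  obtain ⟨g, hgT, hgp⟩ : ∃ g ∈ T, g ∉ p := by
    by_contra hcon
    push Not at hcon
    have h1 : Ideal.span 𝒢 ≤ p := by rw [hTs, Ideal.span_le]; exact hcon
    obtain ⟨g, hg, hsm⟩ := Algebra.IsSmoothAt.exists_notMem_isStandardSmooth k p
    obtain ⟨_, _, _, _, ⟨P⟩⟩ := hsm
    refine hg (h1 (Ideal.subset_span ⟨P.dimension, ?_⟩))
    rw [RingHom.isStandardSmoothOfRelativeDimension_algebraMap]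
    exact ⟨_, _, _, ‹_›, P, rfl⟩
  apply ha
  rw [map_prod]
  exact Finset.prod_eq_zero hgT (hG g (hT𝒢 hgT) p a hgp hap hd)

/-- An element with nonzero differential at `p` is not in the square of the maximal ideal of `A_p`. -/
theorem notMem_sq (t : A) (p : Ideal A) [p.IsPrime] (htp : t ∈ p)
    (ht : (1 : p.ResidueField) ⊗ₜ[A] D k A t ≠ 0)
    (R : Type*) [CommRing R] [Algebra A R] [IsLocalization.AtPrime R p] [IsLocalRing R] :
    algebraMap A R t ∉ maximalIdeal R ^ 2 := by
  refine fun h => ht ?_
  rw [← IsLocalization.AtPrime.map_eq_maximalIdeal p R, ← Ideal.map_pow,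
    IsLocalization.algebraMap_mem_map_algebraMap_iff p.primeCompl] at h
  obtain ⟨s, hs, hst⟩ := h
  have h0 : ∀ z ∈ p ^ 2, (1 : p.ResidueField) ⊗ₜ[A] D k A z = 0 := by
    intro z hz
    rw [pow_two] at hz
    refine Submodule.mul_induction_on hz (fun a ha b hb => ?_) (fun a b ha hb => ?_)
    · have ha' : algebraMap A p.ResidueField a = 0 := Ideal.algebraMap_residueField_eq_zero.2 ha
      have hb' : algebraMap A p.ResidueField b = 0 := Ideal.algebraMap_residueField_eq_zero.2 hb
      rw [Derivation.leibniz, TensorProduct.tmul_add, ← TensorProduct.smul_tmul, ← TensorProduct.smul_tmul,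
        Algebra.smul_def, Algebra.smul_def, ha', hb', zero_mul, TensorProduct.zero_tmul, TensorProduct.zero_tmul,
        add_zero]
    · rw [map_add, TensorProduct.tmul_add, ha, hb, add_zero]
  have h1 := h0 _ hst
  have ht' : algebraMap A p.ResidueField t = 0 := Ideal.algebraMap_residueField_eq_zero.2 htp
  rw [Derivation.leibniz, TensorProduct.tmul_add, ← TensorProduct.smul_tmul t, Algebra.smul_def t, ht', zero_mul,
    TensorProduct.zero_tmul, add_zero, ← TensorProduct.smul_tmul, Algebra.smul_def, mul_one] at h1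
  have hs' : algebraMap A p.ResidueField s ≠ 0 := fun h => hs (Ideal.algebraMap_residueField_eq_zero.1 h)
  have h2 := congrArg (fun z => (algebraMap A p.ResidueField s)⁻¹ • z) h1
  simp only [smul_zero, TensorProduct.smul_tmul', smul_eq_mul, inv_mul_cancel₀ hs'] at h2
  exact h2

theorem exists_polynomial [PerfectField k] (n : ℕ) (x : Fin (n + 1) → A) (j : Fin (n + 1)) (hj : x j = 1)
    (hx : Function.Surjective (MvPolynomial.aeval x : MvPolynomial (Fin (n + 1)) k →ₐ[k] A)) :
    ∃ G : MvPolynomial (Fin (n + 1)) k, G ≠ 0 ∧ ∀ (a : Fin (n + 1) → k), MvPolynomial.eval a G ≠ 0 →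
      TransvReg (∑ i, algebraMap k A (a i) * x i) := by
  let y : Fin n → A := fun i => x (j.succAbove i)
  have hy : Function.Surjective (MvPolynomial.aeval y : MvPolynomial (Fin n) k →ₐ[k] A) := by
    rw [← AlgHom.range_eq_top, ← Algebra.adjoin_range_eq_range_aeval]
    rw [← AlgHom.range_eq_top, ← Algebra.adjoin_range_eq_range_aeval] at hx
    rw [_root_.eq_top_iff, ← hx, Algebra.adjoin_le_iff]
    rintro _ ⟨i, rfl⟩
    rcases Fin.eq_self_or_eq_succAbove j i with h | ⟨l, h⟩
    · rw [h, hj]; exact one_mem _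
    · rw [h]; exact Algebra.subset_adjoin ⟨l, rfl⟩
  have hft : Algebra.FiniteType k A :=
    Algebra.FiniteType.iff_quotient_mvPolynomial''.2 ⟨n, MvPolynomial.aeval y, hy⟩
  obtain ⟨G, hG0, hG⟩ := exists_polynomial_aux n y hy
  let σ : Fin (n + 1) → Fin (n + 1) := Fin.cons j j.succAbove
  have hσ : Function.Injective σ := by
    rw [Fin.cons_injective_iff]
    refine ⟨?_, Fin.succAbove_right_injective⟩
    rintro ⟨i, hi⟩
    exact Fin.succAbove_ne j i hi
  refine ⟨MvPolynomial.rename σ G, ?_, fun a ha => ?_⟩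
  · intro h0
    exact hG0 (MvPolynomial.rename_injective σ hσ (by rw [h0, map_zero]))
  · rw [MvPolynomial.eval_rename] at ha
    have h1 := hG (a ∘ σ) ha
    have h2 : algebraMap k A ((a ∘ σ) 0) + ∑ i : Fin n, algebraMap k A ((a ∘ σ) i.succ) * y i =
        ∑ i, algebraMap k A (a i) * x i := by
      rw [Fin.sum_univ_succAbove _ j, hj, mul_one]
      simp only [Function.comp_apply, σ, Fin.cons_zero, Fin.cons_succ, y]
    rw [h2] at h1
    intro p hp htp hreg
    have hsm : Algebra.IsSmoothAt k p :=
      (Groth.Agent.CalgC.RegSmooth.isSmoothAt_iff_isRegularLocalRing_of_perfectField p).2 hreg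
    exact notMem_sq _ p htp (h1 p hsm htp) _

/-- At a regular point the ideal generated by a transversal element is prime. -/
theorem TransvReg.isPrime {t : A} (ht : TransvReg t) (p : Ideal A) [p.IsPrime] (htp : t ∈ p)
    (hreg : IsRegularLocalRing (Localization.AtPrime p)) :
    (Ideal.span {algebraMap A (Localization.AtPrime p) t}).IsPrime := by
  have h1 : IsRegularLocalRing (Localization.AtPrime p ⧸ Ideal.span {algebraMap A (Localization.AtPrime p) t}) :=
    Groth.Agent.Ega4A.RegDer.isRegularLocalRing_quotient_of_notMem_sq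
      ((IsLocalization.AtPrime.to_map_mem_maximal_iff (Localization.AtPrime p) p t).2 htp) (ht p htp hreg)
  have h2 : IsDomain (Localization.AtPrime p ⧸ Ideal.span {algebraMap A (Localization.AtPrime p) t}) :=
    Groth.Agent.CalgA.RegBasic.isDomain _
  exact (Ideal.Quotient.isDomain_iff_prime _).mp h2

/-- The quotient of a normal Noetherian domain by an element which is transversal at the regular points is
reduced. -/
theorem TransvReg.isReduced_quotient [IsDomain A] [IsNoetherianRing A] [IsIntegrallyClosed A] {t : A}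
    (ht : TransvReg t) (h0 : t ≠ 0) : IsReduced (A ⧸ Ideal.span {t}) := by
  rw [← Ideal.isRadical_iff_quotient_reduced]
  intro a ha
  obtain ⟨m, hm⟩ := ha
  refine Groth.Agent.Etalg.NormalDvr.mem_span_of_forall_height_one A h0 fun P hP hP1 => ?_
  by_cases htP : t ∈ P
  · have h1 := ht.isPrime P htP (Groth.Agent.Lipman.SingFin.isRegular_of_height_le_one P hP1.le)
    have h2 : algebraMap A (Localization.AtPrime P) a ∈
        Ideal.span {algebraMap A (Localization.AtPrime P) t} := by
      refine h1.mem_of_pow_mem m ?_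
      rw [← map_pow, ← Set.image_singleton, ← Ideal.map_span]
      exact Ideal.mem_map_of_mem _ hm
    rw [← Set.image_singleton, ← Ideal.map_span,
      IsLocalization.algebraMap_mem_map_algebraMap_iff P.primeCompl] at h2
    obtain ⟨s, hs, hsa⟩ := h2
    exact ⟨s, hs, hsa⟩
  · exact ⟨t, htP, Ideal.mul_mem_right _ _ (Ideal.mem_span_singleton_self t)⟩

/-- Through a regular point there is only one component of the zero set of a transversal element. -/
theorem TransvReg.eq_of_le {t : A} (ht : TransvReg t) (p : Ideal A) [p.IsPrime] (htp : t ∈ p)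
    (hreg : IsRegularLocalRing (Localization.AtPrime p)) :
    ∃ q : Ideal A, q.IsPrime ∧ q ≤ p ∧ t ∈ q ∧ ∀ q' : Ideal A, q'.IsPrime → q' ≤ p → t ∈ q' → q ≤ q' := by
  have h1 := ht.isPrime p htp hreg
  refine ⟨(Ideal.span {algebraMap A (Localization.AtPrime p) t}).comap (algebraMap A _), inferInstance,
    ?_, Ideal.mem_comap.mpr (Ideal.mem_span_singleton_self _), ?_⟩
  · intro a ha
    have h2 : algebraMap A (Localization.AtPrime p) a ∈ maximalIdeal _ :=
      IsLocalRing.le_maximalIdeal h1.ne_top ha
    exact (IsLocalization.AtPrime.to_map_mem_maximal_iff (Localization.AtPrime p) p a).1 h2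
  · intro q' hq' hle htq a ha
    rw [Ideal.mem_comap, ← Set.image_singleton, ← Ideal.map_span,
      IsLocalization.algebraMap_mem_map_algebraMap_iff p.primeCompl] at ha
    obtain ⟨s, hs, hsa⟩ := ha
    have h3 : s * a ∈ q' := (Ideal.span_singleton_le_iff_mem _).mpr htq hsa
    exact (hq'.mem_or_mem h3).resolve_left fun h => hs (hle h)

end K418.HypSmooth
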