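import Groth.Agent.Variety.K418.ConeRing
import Groth.Agent.S17758
import Groth.Agent.Variety.K418.DimFlat
import Mathlib.RingTheory.GradedAlgebra.Radical

/-!
# Connectedness of sections of irreducible projective sets by forms

`isConnected_inter`: let `V = closure {ξ}` be an irreducible closed subset of `P^n_k` (any field `k`)
and let `f_1, …, f_t` be forms of positive degree with `t + 1 ≤ dim V`. Then `V ∩ V_+(f_1, …, f_t)` is
connected.
-/

set_option autoImplicit false

universe u

open CategoryTheory CategoryTheory.Limits AlgebraicGeometry Topology CohB1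
open Groth.Agent Groth.Agent.VarietyB
open K426 K426.ProjCut K418.ConeComp K418.ConeRing

namespace K418.LinConn

variable {k : Type u} [Field k] {n : ℕ}

/-- The completed cone. -/
abbrev R (z : ProjSpace n k) : Type u := MvPowerSeries (Fin (n + 1)) k ⧸ hat (idl z)

instance isPrime_hat' (z : ProjSpace n k) : (hat (idl z)).IsPrime := isPrime_hat (idl z)

instance isDomain_R (z : ProjSpace n k) : IsDomain (R z) := inferInstance

instance isLocalRing_R (z : ProjSpace n k) : IsLocalRing (R z) :=
  IsLocalRing.of_surjective' (Ideal.Quotient.mk _) Ideal.Quotient.mk_surjective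

theorem maximalIdeal_R (z : ProjSpace n k) : IsLocalRing.maximalIdeal (R z) =
    (IsLocalRing.maximalIdeal (MvPowerSeries (Fin (n + 1)) k)).map (Ideal.Quotient.mk _) := by
  symm
  apply IsLocalRing.eq_maximalIdeal
  have h := Ideal.map_eq_top_or_isMaximal_of_surjective (Ideal.Quotient.mk (hat (idl z)))
    Ideal.Quotient.mk_surjective (IsLocalRing.maximalIdeal.isMaximal (MvPowerSeries (Fin (n + 1)) k))
  rcases h with h | h
  · exfalso
    have h1 := congrArg (Ideal.comap (Ideal.Quotient.mk (hat (idl z)))) h
    rw [Ideal.comap_map_of_surjective _ Ideal.Quotient.mk_surjective, Ideal.comap_top,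
      ← RingHom.ker_eq_comap_bot, Ideal.mk_ker, sup_eq_left.mpr (hat_lt_maximalIdeal z).le] at h1
    exact (IsLocalRing.maximalIdeal.isMaximal _).ne_top h1
  · exact h

instance isAdicComplete_R (z : ProjSpace n k) :
    IsAdicComplete (IsLocalRing.maximalIdeal (R z)) (R z) := by
  have h := CalgB.PowField.isAdicComplete k (n + 1)
  have h1 := Ega3B.IdemLift.isAdicComplete_map (MvPowerSeries (Fin (n + 1)) k) (R z)
    (IsLocalRing.maximalIdeal (MvPowerSeries (Fin (n + 1)) k))
  rw [maximalIdeal_R]
  exact h1

/-- The map from the polynomial ring. -/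
noncomputable def toR (z : ProjSpace n k) : MvPolynomial (Fin (n + 1)) k →+* R z :=
  (Ideal.Quotient.mk (hat (idl z))).comp MvPolynomial.coeToMvPowerSeries.ringHom

theorem toR_apply (z : ProjSpace n k) (p : MvPolynomial (Fin (n + 1)) k) :
    toR z p = Ideal.Quotient.mk (hat (idl z)) (p : MvPowerSeries (Fin (n + 1)) k) := rfl

theorem maximalIdeal_R_le (z : ProjSpace n k) {J : Ideal (R z)}
    (h : ∀ i, toR z (MvPolynomial.X i) ∈ J) : IsLocalRing.maximalIdeal (R z) ≤ J := by
  rw [maximalIdeal_R, CalgB.PowField.maximalIdeal_eq, Ideal.map_span, Ideal.span_le]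
  rintro _ ⟨_, ⟨i, rfl⟩, rfl⟩
  have := h i
  rwa [toR_apply, MvPolynomial.coe_X] at this

theorem toR_mem_maximalIdeal (z : ProjSpace n k) (f : MvPolynomial (Fin (n + 1)) k) (d : ℕ)
    (hd : 0 < d) (hf : f.IsHomogeneous d) : toR z f ∈ IsLocalRing.maximalIdeal (R z) := by
  rw [maximalIdeal_R, toR_apply]
  apply Ideal.mem_map_of_mem
  rw [IsLocalRing.mem_maximalIdeal, mem_nonunits_iff, MvPowerSeries.isUnit_iff_constantCoeff,
    isUnit_iff_ne_zero, not_not, ← MvPowerSeries.coeff_zero_eq_constantCoeff_apply,
    MvPolynomial.coeff_coe]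
  by_contra h
  have h1 := hf h
  rw [Finsupp.weight_apply] at h1
  simp at h1
  omega

/-- The homogeneous core of the trace of a prime on the polynomial ring. -/
noncomputable def toProj (z : ProjSpace n k) (x : PrimeSpectrum (R z))
    (hx : x.asIdeal ≠ IsLocalRing.maximalIdeal (R z)) : ProjectiveSpectrum (polyGrading n k) where
  asHomogeneousIdeal := (x.asIdeal.comap (toR z)).homogeneousCore (polyGrading n k)
  isPrime := Ideal.IsPrime.homogeneousCore (Ideal.comap_isPrime _ _)
  not_irrelevant_le h := by
    apply hx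
    symm
    apply (IsLocalRing.maximalIdeal.isMaximal (R z)).eq_of_le x.isPrime.ne_top
    apply maximalIdeal_R_le
    intro i
    have h1 : (MvPolynomial.X i : MvPolynomial (Fin (n + 1)) k) ∈
        HomogeneousIdeal.irrelevant (polyGrading n k) :=
      HomogeneousIdeal.mem_irrelevant_of_mem _ one_pos
        ((MvPolynomial.mem_homogeneousSubmodule _ _).mpr (MvPolynomial.isHomogeneous_X k i))
    exact Ideal.toIdeal_homogeneousCore_le (polyGrading n k) (x.asIdeal.comap (toR z)) (h h1)

theorem mem_idl_toProj_iff (z : ProjSpace n k) (x : PrimeSpectrum (R z))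
    (hx : x.asIdeal ≠ IsLocalRing.maximalIdeal (R z)) (p : MvPolynomial (Fin (n + 1)) k) :
    p ∈ idl (show ProjSpace n k from toProj z x hx) ↔
      ∀ i, toR z (MvPolynomial.homogeneousComponent i p) ∈ x.asIdeal := by
  constructor
  · intro h i
    have h1 := homogeneousComponent_mem_idl _ p h i
    exact Ideal.toIdeal_homogeneousCore_le (polyGrading n k) _ h1
  · intro h
    rw [← MvPolynomial.sum_homogeneousComponent p]
    refine Ideal.sum_mem _ fun i _ => ?_
    exact Ideal.mem_homogeneousCore_of_homogeneous_of_mem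
      ⟨i, (MvPolynomial.mem_homogeneousSubmodule _ _).mpr
        (MvPolynomial.homogeneousComponent_isHomogeneous i p)⟩ (h i)

theorem continuous_toProj (z : ProjSpace n k) (U : Set (PrimeSpectrum (R z)))
    (hU : ∀ x ∈ U, x.asIdeal ≠ IsLocalRing.maximalIdeal (R z)) :
    Continuous (fun x : U => (show ProjSpace n k from toProj z x.1 (hU x.1 x.2))) := by
  rw [continuous_iff_isClosed]
  intro T hT
  obtain ⟨S, hS⟩ := (ProjectiveSpectrum.isClosed_iff_zeroLocus (polyGrading n k) T).mp hT
  have h1 : (fun x : U => (show ProjSpace n k from toProj z x.1 (hU x.1 x.2))) ⁻¹' T =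
      Subtype.val ⁻¹' PrimeSpectrum.zeroLocus
        {r : R z | ∃ p ∈ S, ∃ i, r = toR z (MvPolynomial.homogeneousComponent i p)} := by
    ext x
    rw [Set.mem_preimage, hS, Set.mem_preimage, PrimeSpectrum.mem_zeroLocus]
    constructor
    · rintro h _ ⟨p, hp, i, rfl⟩
      exact (mem_idl_toProj_iff z x.1 (hU x.1 x.2) p).mp (h hp) i
    · intro h p hp
      exact (mem_idl_toProj_iff z x.1 (hU x.1 x.2) p).mpr fun i => h ⟨p, hp, i, rfl⟩
  rw [h1]
  exact (PrimeSpectrum.isClosed_zeroLocus _).preimage continuous_subtype_val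

/-- **Connectedness of linear sections** (and sections by forms): an irreducible closed subset
`closure {ξ}` of dimension at least `t + 1` meets `V_+(f_1, …, f_t)` in a connected set. -/
theorem isConnected_inter (ξ : ProjSpace n k) {t : ℕ} (ht : t + 1 ≤ DimSch.trd k _ ξ)
    (f : Fin t → MvPolynomial (Fin (n + 1)) k) (d : Fin t → ℕ) (hd : ∀ i, 0 < d i)
    (hf : ∀ i, (f i).IsHomogeneous (d i)) :
    _root_.IsConnected {w : ProjSpace n k | ξ ⤳ w ∧ ∀ i, f i ∈ idl w} := by
  obtain ⟨D, hD⟩ : ∃ D : ℕ, ringKrullDim (R ξ) = D := by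
    obtain ⟨D, hD⟩ := K418.DimFlat.exists_ringKrullDim_eq (R ξ)
    exact ⟨D, hD⟩
  have h1 := trd_add_one_le (DimSch.trd k _ ξ) ξ rfl
  rw [show ringKrullDim (MvPowerSeries (Fin (n + 1)) k ⧸ hat (idl ξ)) = D from hD] at h1
  have h2 : DimSch.trd k _ ξ + 1 ≤ D := by exact_mod_cast h1
  let g : Fin t → R ξ := fun i => toR ξ (f i)
  let I : Ideal (R ξ) := Ideal.span (Set.range g)
  have hgm : ∀ i, g i ∈ IsLocalRing.maximalIdeal (R ξ) := fun i =>
    toR_mem_maximalIdeal ξ (f i) (d i) (hd i) (hf i)
  have hItop : I ≠ ⊤ := by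
    intro h
    apply (IsLocalRing.maximalIdeal.isMaximal (R ξ)).ne_top
    rw [eq_top_iff, ← h]
    exact Ideal.span_le.mpr (by rintro _ ⟨i, rfl⟩; exact hgm i)
  have hconn := Groth.Agent.S17758.result (R ξ) D hD t (by omega) g I hItop rfl
  set U : Set (PrimeSpectrum (R ξ)) :=
    {x | I ≤ x.asIdeal ∧ x.asIdeal ≠ IsLocalRing.maximalIdeal (R ξ)} with hU
  have hU' : ∀ x ∈ U, x.asIdeal ≠ IsLocalRing.maximalIdeal (R ξ) := fun x hx => hx.2
  have hc := continuous_toProj ξ U hU'
  have : ConnectedSpace U := isConnected_iff_connectedSpace.mp hconn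
  have hr : {w : ProjSpace n k | ξ ⤳ w ∧ ∀ i, f i ∈ idl w} =
      Set.range (fun x : U => (show ProjSpace n k from toProj ξ x.1 (hU' x.1 x.2))) := by
    ext w
    constructor
    · rintro ⟨hw, hw'⟩
      have hker : RingHom.ker (Ideal.Quotient.mk (hat (idl ξ))) ≤ hat (idl w) := by
        rw [Ideal.mk_ker]
        exact hat_mono ((specializes_iff ξ w).mp hw)
      have hcm : ((hat (idl w)).map (Ideal.Quotient.mk (hat (idl ξ)))).comap
          (Ideal.Quotient.mk (hat (idl ξ))) = hat (idl w) := by
        rw [Ideal.comap_map_of_surjective _ Ideal.Quotient.mk_surjective,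
          ← RingHom.ker_eq_comap_bot, sup_eq_left.mpr hker]
      have hprime : ((hat (idl w)).map (Ideal.Quotient.mk (hat (idl ξ)))).IsPrime :=
        Ideal.map_isPrime_of_surjective Ideal.Quotient.mk_surjective hker
      let x : PrimeSpectrum (R ξ) := ⟨_, hprime⟩
      have hcx : ∀ p : MvPolynomial (Fin (n + 1)) k, toR ξ p ∈ x.asIdeal ↔ p ∈ idl w := by
        intro p
        rw [← coe_mem_hat_idl w p, ← hcm]
        rfl
      have hxU : x ∈ U := by
        refine ⟨Ideal.span_le.mpr ?_, ?_⟩
        · rintro _ ⟨i, rfl⟩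
          exact (hcx _).mpr (hw' i)
        · intro h
          apply (hat_lt_maximalIdeal w).ne
          have h3 := hcm
          change x.asIdeal.comap _ = _ at h3
          rw [h] at h3
          rw [← h3]
          ext a
          rw [Ideal.mem_comap, IsLocalRing.mem_maximalIdeal, IsLocalRing.mem_maximalIdeal,
            mem_nonunits_iff, mem_nonunits_iff, not_iff_not]
          constructor
          · intro ha
            have : IsLocalHom (Ideal.Quotient.mk (hat (idl ξ))) :=
              IsLocalHom.of_surjective _ Ideal.Quotient.mk_surjective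
            exact (isUnit_map_iff (Ideal.Quotient.mk (hat (idl ξ))) a).mp ha
          · intro ha
            exact ha.map _
      refine ⟨⟨x, hxU⟩, ?_⟩
      have h4 : idl (show ProjSpace n k from toProj ξ x (hU' x hxU)) = idl w := by
        ext p
        rw [mem_idl_toProj_iff]
        simp only [hcx]
        constructor
        · intro h
          rw [← MvPolynomial.sum_homogeneousComponent p]
          exact Ideal.sum_mem _ fun i _ => h i
        · intro h i
          exact homogeneousComponent_mem_idl w p h i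
      have h5 : (show ProjSpace n k from toProj ξ x (hU' x hxU)) ⤳ w :=
        (specializes_iff _ _).mpr h4.le
      have h6 : w ⤳ (show ProjSpace n k from toProj ξ x (hU' x hxU)) :=
        (specializes_iff _ _).mpr h4.ge
      exact (h5.antisymm h6).eq
    · rintro ⟨x, rfl⟩
      constructor
      · rw [specializes_iff]
        intro p hp
        rw [mem_idl_toProj_iff]
        intro i
        have h3 : toR ξ (MvPolynomial.homogeneousComponent i p) = 0 := by
          rw [toR_apply, Ideal.Quotient.eq_zero_iff_mem, coe_mem_hat_idl]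
          exact homogeneousComponent_mem_idl ξ p hp i
        rw [h3]
        exact Ideal.zero_mem _
      · intro i
        refine Ideal.mem_homogeneousCore_of_homogeneous_of_mem
          ⟨d i, (MvPolynomial.mem_homogeneousSubmodule _ _).mpr (hf i)⟩ ?_
        exact x.2.1 (Ideal.subset_span ⟨i, rfl⟩)
  rw [hr]
  exact isConnected_range hc

end K418.LinConn
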