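import Groth.Agent.Etalg.SepElt
import Mathlib.RingTheory.Jacobson.Ring

/-!
# The separable elements of a connected algebra over a field
-/

set_option autoImplicit false

universe u v

open TensorProduct Groth.Agent.Etalg.SepElt

namespace K418.SepFld

variable {K : Type u} [Field K] {B : Type v} [CommRing B] [Algebra K B]

/-- If `B` has only the idempotents `0` and `1` then its separable elements form a field. -/
theorem isField_sepElt [Nontrivial B] (hB : ∀ e : B, IsIdempotentElem e → e = 0 ∨ e = 1) :
    IsField (sepElt K B) := by
  have htop : sepElt K (sepElt K B) = ⊤ := by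
    have := weaklyEtale_sepElt (K := K) (B := B)
    exact sepElt_eq_top_of_weaklyEtale K _
  refine ⟨⟨0, 1, zero_ne_one⟩, mul_comm, ?_⟩
  intro s hs
  obtain ⟨c, hc⟩ := exists_eq_mul_mul (K := K) (s := s) (by rw [htop]; exact Algebra.mem_top)
  have he : IsIdempotentElem ((s * c : sepElt K B) : B) := by
    have : (s * c) * (s * c) = s * c := by
      calc (s * c) * (s * c) = (s * s * c) * c := by ring
        _ = s * c := by rw [← hc]
    exact congrArg Subtype.val this
  rcases hB _ he with h | h
  · exfalso
    apply hs
    have h1 : s * c = 0 := Subtype.ext h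
    calc s = s * s * c := hc
      _ = s * (s * c) := by ring
      _ = 0 := by rw [h1, mul_zero]
  · exact ⟨c, Subtype.ext h⟩

/-- If moreover `B` maps to a finite extension field of `K`, the separable elements form a finite
étale `K`-algebra. -/
theorem finite_sepElt [Nontrivial B] (hB : ∀ e : B, IsIdempotentElem e → e = 0 ∨ e = 1)
    {F : Type*} [Field F] [Algebra K F] [Module.Finite K F] (φ : B →ₐ[K] F) :
    Module.Finite K (sepElt K B) := by
  have h1 := isField_sepElt (K := K) hB
  let _ : Field (sepElt K B) := h1.toField
  exact Module.Finite.of_injective (φ.comp (sepElt K B).val).toLinearMap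
    ((φ.comp (sepElt K B).val).toRingHom.injective)

theorem etale_sepElt (h : Module.Finite K (sepElt K B)) : Algebra.Etale K (sepElt K B) := by
  refine etale_of_le_sepElt le_rfl ?_
  rw [← Subalgebra.fg_top]
  exact (inferInstance : Algebra.FiniteType K (sepElt K B)).out

end K418.SepFld
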